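import Cfsg.Agent.Mrg.Omega.OM.Dich
import Cfsg.Agent.Mrg.Omega.NO3b.K0.Abs
import Cfsg.Agent.Mrg.Omega.NO3b.K0.FullOff
import Cfsg.Agent.Mrg.Omega.NO3b.K0.One
import Cfsg.Agent.Mrg.Omega.FrameI
import Cfsg.Agent.Mrg.Omega.OM.PB
import Cfsg.Agent.Mrg.Omega.OM.ROneSymT
import Cfsg.Agent.Mrg.Omega.VP

-- merged: Cfsg.Agent.Mrg.Omega.OM.FixPt
section

/-!
# Fixed points do not lift (helper857 #12910 (c))

`T` a Sylow 2-subgroup of the minimal parabolic `H` over `T`, `[Ω₁(Z(T)), H] = 1`, `J(T) ≰ O₂(H)`. Then `O²(H)`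
centralises `Ω₁(Z(O₂(H)))`; more generally every elementary abelian normal 2-subgroup of `H` centralised by `O₂(H)`
(`fix_of`). Input: the abstract FF theorem `FFBr.AStmt`.
-/

set_option autoImplicit false

namespace Cfsg.Agent.Omega.OM.FixPt

open Subgroup Cfsg Cfsg.Agent.ZN.ChoiceBase Cfsg.Agent.ZN.ChoiceSit
open Cfsg.Agent.ZN (jj zj bau zc zl o2)
open Cfsg.Agent.MinSimple.MinParabolic (IsMinPar)
open Cfsg.Agent.MinSimple.VModule (oddGen mem_oddGen le_normalizer_oddGen oddGen_le)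
open Cfsg.Agent.Omega.NO3b.K0 (NoOv FullOff noOv fullOff oddGen_oddGen norm_inf)
open Cfsg.Agent.Omega.NO3S.NotFF (le_centralizer_of_commutator commutator_commutator_eq normalizer_commutator)
open Cfsg.Agent.Omega.FFThm (Off off_of_AA relIndex_le_iff)
open scoped commutatorElement

universe u

variable {G : Type u} [Group G] [Finite G] {T H : Subgroup G}

theorem ri_ne (A B : Subgroup G) : A.relIndex B ≠ 0 := Subgroup.index_ne_zero_of_finite

/-- **Fixed points do not lift.** -/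
theorem fix_of (hA : FFBr.AStmt.{u}) (hT : Syl T H) (hmin : IsMinPar T H) (hJ : ¬ jj T ≤ o2 H)
    (hz : H ≤ centralizer (zc T : Set G)) {U : Subgroup G} (hU2 : ∀ u ∈ U, u ^ 2 = 1)
    (hUc : U ≤ centralizer (U : Set G)) (hUn : H ≤ normalizer (U : Set G)) (hUO : U ≤ o2 H)
    (hOU : o2 H ≤ centralizer (U : Set G)) : U ≤ centralizer (oddGen H : Set G) := by
  classical
  by_contra hcon
  -- a minimal bad submodule
  let 𝒮 : Set (Subgroup G) := {K | K ≤ U ∧ H ≤ normalizer (K : Set G) ∧ ¬ K ≤ centralizer (oddGen H : Set G)}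
  have hne : 𝒮.Nonempty := ⟨U, le_rfl, hUn, hcon⟩
  obtain ⟨Y, hY, hYmin⟩ : ∃ Y ∈ 𝒮, ∀ K ∈ 𝒮, Nat.card Y ≤ Nat.card K := by
    obtain ⟨Y, hY⟩ := Set.exists_min_image 𝒮 (fun K => Nat.card K) (Set.toFinite _) hne
    exact ⟨Y, hY⟩
  obtain ⟨hYU, hYn, hYodd⟩ := hY
  have hprop : ∀ K : Subgroup G, K ≤ Y → H ≤ normalizer (K : Set G) → K ≠ Y →
      K ≤ centralizer (oddGen H : Set G) := by
    intro K hKY hKn hKne
    by_contra h
    exact hKne (Subgroup.eq_of_le_of_card_ge hKY (hYmin K ⟨hKY.trans hYU, hKn, h⟩))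
  have hYsq : ∀ y ∈ Y, y ^ 2 = 1 := fun y hy => hU2 y (hYU hy)
  have hYc : Y ≤ centralizer (Y : Set G) := hYU.trans (hUc.trans (centralizer_le (by exact_mod_cast hYU)))
  have hYO : o2 H ≤ centralizer (Y : Set G) := hOU.trans (centralizer_le (by exact_mod_cast hYU))
  have hYH : Y ≤ H := hYU.trans (hUO.trans (o2_le H))
  have hYT : Y ≤ T := hYU.trans (hUO.trans (o2_le_syl hT))
  have hYp : IsPGroup 2 Y := hT.2.1.to_le hYT
  have hEn : oddGen H ≤ normalizer (Y : Set G) := (oddGen_le H).trans hYn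
  -- `[Y, O²(H)] = Y`
  have hYE : ⁅Y, oddGen H⁆ = Y := by
    by_contra h
    have h1 : ⁅Y, oddGen H⁆ ≤ Y := NO3b.CTwo.Sit.commutator_le_of_norm hEn
    have h2 : H ≤ normalizer ((⁅Y, oddGen H⁆ : Subgroup G) : Set G) :=
      normalizer_commutator hYn (le_normalizer_oddGen H)
    exact hYodd (le_centralizer_of_commutator (oddGen_oddGen H) hYp hEn (hprop _ h1 h2 h))
  have hYne : Y ≠ ⊥ := by
    rintro rfl
    exact hYodd bot_le
  -- an offender
  obtain ⟨A, hAT, hAO⟩ : ∃ A ∈ AA T, ¬ A ≤ o2 H := by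
    by_contra hc
    push Not at hc
    apply hJ
    rw [jj_eq]
    exact sSup_le hc
  have hAel := hAT.1
  have hAle : A ≤ T := hAT.2.1
  have hA2 : ∀ a ∈ A, a ^ 2 ∈ o2 H := fun a ha => by rw [hAel.2 a ha]; exact one_mem _
  have hAc : ∀ a ∈ A, ∀ b ∈ A, a * b * a⁻¹ * b⁻¹ ∈ o2 H := fun a ha b hb => by
    have h3 : a * b = b * a := congrArg Subtype.val (hAel.1.is_comm.comm ⟨a, ha⟩ ⟨b, hb⟩)
    have h4 : a * b * a⁻¹ * b⁻¹ = 1 := by rw [h3]; group
    rw [h4]; exact one_mem _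
  set D : Subgroup G := Y ⊓ centralizer (oddGen H : Set G) with hD
  have hDn : H ≤ normalizer (D : Set G) :=
    norm_inf hYn ((le_normalizer_oddGen H).trans Dich.norm_cent)
  have hDne : D ≠ Y := fun h => hYodd (inf_eq_left.1 h)
  -- `D' = {y | [y, A] ≤ D}`
  let D' : Subgroup G :=
    { carrier := {y | y ∈ Y ∧ ∀ a ∈ A, ⁅y, a⁆ ∈ D}
      one_mem' := ⟨one_mem _, fun a _ => by rw [commutatorElement_one_left]; exact one_mem _⟩
      mul_mem' := by
        rintro x y ⟨hx, hx'⟩ ⟨hy, hy'⟩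
        refine ⟨mul_mem hx hy, fun a ha => ?_⟩
        have h1 : x * ⁅y, a⁆ = ⁅y, a⁆ * x := mem_centralizer_iff.1 (hYc (hy' a ha).1) x hx
        have h2 : ⁅x * y, a⁆ = (x * ⁅y, a⁆ * x⁻¹) * ⁅x, a⁆ := by
          simp only [commutatorElement_def]; group
        rw [h2, h1, mul_inv_cancel_right]
        exact mul_mem (hy' a ha) (hx' a ha)
      inv_mem' := by
        rintro x ⟨hx, hx'⟩
        have h1 : x⁻¹ = x := inv_eq_of_mul_eq_one_left (by have := hYsq x hx; rwa [pow_two] at this)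
        rw [h1]
        exact ⟨hx, hx'⟩ }
  have hD'Y : D' ≤ Y := fun y hy => hy.1
  have hCD' : Y ⊓ centralizer (A : Set G) ≤ D' := by
    rintro y ⟨hy, hyc⟩
    refine ⟨hy, fun a ha => ?_⟩
    have h1 := mem_centralizer_iff.1 hyc a ha
    have h2 : ⁅y, a⁆ = 1 := by rw [commutatorElement_def, ← h1]; group
    rw [h2]; exact one_mem _
  -- NoOv
  have h1 := noOv hA hT hmin D Y A D' inf_le_left hYH hYsq hYc hDn hYn
    (fun K hDK hKY hKn => by
      by_cases h : K = Y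
      · exact Or.inr h
      · exact Or.inl (le_antisymm (le_inf hKY (hprop K hKY hKn h)) hDK))
    (fun h => hDne (le_antisymm inf_le_left (hYE ▸ h))) (hAle.trans hT.1) hA2 hAc hD'Y
    (by rw [commutator_le]; exact fun y hy a ha => hy.2 a ha)
  have hAY : ¬ A ≤ centralizer (Y : Set G) := by
    intro h
    have h2 : D' = Y := le_antisymm hD'Y ((le_inf le_rfl (le_centralizer_iff.1 h)).trans hCD')
    rw [h2, relIndex_self] at h1
    have h3 : (o2 H).relIndex A = 1 := le_antisymm h1 (Nat.one_le_iff_ne_zero.2 ((ri_ne _ _)))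
    exact hAO (relIndex_eq_one.1 h3)
  have hYel : IsElementaryAbelian 2 Y :=
    ⟨⟨⟨fun a b => Subtype.ext (mem_centralizer_iff.1 (hYc b.2) a a.2)⟩⟩, hYsq⟩
  have hoff := off_of_AA hYel hYT hAT hAY
  have h2 : (centralizer (A : Set G)).relIndex Y ≤ (centralizer (Y : Set G)).relIndex A := relIndex_le_iff.1 hoff.le
  have h3 : (centralizer (Y : Set G)).relIndex A ≤ (o2 H).relIndex A :=
    Nat.le_of_dvd (Nat.pos_of_ne_zero (ri_ne _ _)) (relIndex_dvd_of_le_left A hYO)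
  have h40 : (Y ⊓ centralizer (A : Set G)).relIndex Y = (centralizer (A : Set G)).relIndex Y :=
    inf_relIndex_left Y (centralizer (A : Set G))
  have h41 := relIndex_mul_relIndex _ _ _ hCD' hD'Y
  have h42 : (Y ⊓ centralizer (A : Set G)).relIndex D' ≠ 0 := (ri_ne _ _)
  have h43 : D'.relIndex Y ≠ 0 := (ri_ne _ _)
  rw [h40] at h41
  have h4 : D'.relIndex Y ≤ (centralizer (A : Set G)).relIndex Y := by
    rw [← h41]
    exact Nat.le_mul_of_pos_left _ (Nat.pos_of_ne_zero h42)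
  have h5 : D'.relIndex Y = (centralizer (A : Set G)).relIndex Y :=
    le_antisymm h4 (h2.trans (h3.trans h1))
  have h6 : (Y ⊓ centralizer (A : Set G)).relIndex D' = 1 := by
    rw [← h5] at h41
    exact Nat.eq_of_mul_eq_mul_right (Nat.pos_of_ne_zero h43) (by rw [h41, one_mul])
  have h7 : D' ≤ Y ⊓ centralizer (A : Set G) := relIndex_eq_one.1 h6
  obtain ⟨y, hy, hyT, hyE⟩ := fullOff hA hT hmin Y A hYH hYsq hYc hYn hYO hYE hYne hprop hAle hA2 hAc hAO
    (fun y hy h => (h7 ⟨hy, fun a ha => ⟨by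
      have h8 : ⁅y, a⁆ = y * (a * y⁻¹ * a⁻¹) := by rw [commutatorElement_def]; group
      rw [h8]
      exact mul_mem hy ((mem_normalizer_iff.1 (hYn (hT.1 (hAle ha))) _).1 (inv_mem hy)), h a ha⟩⟩).2)
    (le_antisymm (h1.trans h4) (h2.trans h3))
  apply hyE
  have hyz : y ∈ zc T := mem_zc.2 ⟨hYT hy, hYsq y hy, fun t ht => mem_centralizer_iff.1 hyT t ht⟩
  rw [mem_centralizer_iff]
  intro e he
  exact (mem_centralizer_iff.1 (hz (oddGen_le H he)) y hyz).symm

/-- The fixed point statement. -/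
theorem fixPt (hA : FFBr.AStmt.{u}) (hT : Syl T H) (hmin : IsMinPar T H) : Dich.FixPt T H := by
  intro hJ hz
  refine fix_of hA hT hmin hJ hz (fun u hu => (mem_zc.1 hu).2.1) ?_ ?_ (zc_le _) ?_
  · intro u hu
    rw [mem_centralizer_iff]
    exact fun v hv => (mem_zc.1 hu).2.2 v (mem_zc.1 hv).1
  · refine (le_normalizer_o2 H).trans ?_
    exact normalizer_le_of_cj (F := zc) (fun g B => LemmaK.Main.zc_cj g B) _
  · intro x hx
    rw [mem_centralizer_iff]
    exact fun u hu => ((mem_zc.1 hu).2.2 x hx).symm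

end Cfsg.Agent.Omega.OM.FixPt

end

-- merged: Cfsg.Agent.Mrg.Omega.OM.BlkGen
section

/-!
# (O1+) of #14539: minimal parabolics which move `Ω₁(Z(T))` are generated by `T` and blocks

`FBlk S L V` : `L` is an FF-block (`Uni.FB`) over `B = bau S` with module `V`, and a block of Lemma K.

* `FBlk.conj` : `N_G(B)` permutes these blocks;
* `blkGen` : `Dich.BlkGen S (FBlk S) T H` for every minimal parabolic `H` of characteristic 2 over `T ≥ B`;
* `gen` : **(O1+)** for the family of all FF-blocks over `B`: only `FFThm.Stmt` and `FFBr.AStmt` are used.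
* `dich` : **(5)**.
-/

set_option autoImplicit false

namespace Cfsg.Agent.Omega.OM.BlkGen

open Subgroup Cfsg Cfsg.Agent.ZN.ChoiceBase Cfsg.Agent.ZN.ChoiceSit
open Cfsg.Agent.ZN (jj zj bau zc zl o2)
open Cfsg.Agent.MinSimple.MinParabolic (IsMinPar)
open Cfsg.Agent.MinSimple.VModule (oddGen)
open Cfsg.Agent.Omega.LemmaK (Block WeakNormal)
open Cfsg.Agent.Omega.LemmaK.Main (le_normalizer_bau)
open Cfsg.Agent.Omega.FFThm (Off NoOver Concl NatK SymK)
open Cfsg.Agent.Omega.FrameFF (cv)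
open Cfsg.Agent.Omega.OM.Uni (FB)
open Cfsg.Agent.Omega.OM.Dich (K0 Fam)
open scoped Pointwise commutatorElement

universe u

variable {G : Type u} [Group G]

/-! ### The family -/

/-- `L` is an FF-block over `bau S` with module `V`. -/
structure FBlk (S L V : Subgroup G) : Prop where
  fb : ∃ Z q, FB (bau S) L V Z q
  blk : Block 2 (bau S) L V

theorem block_conj {B L V : Subgroup G} (h : Block 2 B L V) (g : G) : Block 2 (cj g B) (cj g L) (cj g V) where
  two := isPGroup_cj g h.two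
  le := cj_mono g h.le
  nor := h.nor.conj g
  gen := by
    refine (cj_mono g h.gen).trans ?_
    have h1 : cj g (⨆ x : L, MulAut.conj (x : G) • B) = ⨆ x : L, cj g (MulAut.conj (x : G) • B) :=
      Subgroup.map_iSup _ _
    rw [h1]
    refine iSup_le fun x => ?_
    have hx : g * x * g⁻¹ ∈ cj g L := ⟨x, x.2, rfl⟩
    refine le_trans ?_ (le_iSup (fun y : (cj g L : Subgroup G) => MulAut.conj (y : G) • cj g B) ⟨g * x * g⁻¹, hx⟩)
    change cj g (cj (x : G) B) ≤ cj (g * x * g⁻¹) (cj g B)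
    rw [cj_cj, cj_cj]
    have : g * (x : G) * g⁻¹ * g = g * x := by group
    rw [this]
  inv := by
    intro y hy
    rw [← cj_normalizer, mem_cj]
    refine h.inv _ fun x hx => ?_
    have h1 := hy (g * x * g⁻¹) ⟨x, hx, rfl⟩
    change y ∈ normalizer (cj (g * x * g⁻¹) (cj g B) : Set G) at h1
    rw [cj_cj, inv_mul_cancel_right, ← cj_cj, ← cj_normalizer, mem_cj] at h1
    exact h1
  Vp := isPGroup_cj g h.Vp
  VL := cj_mono g h.VL
  LV := by
    rw [← cj_normalizer]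
    exact cj_mono g h.LV
  core := by
    intro W hW hWL hLW
    have h1 := h.core (cj g⁻¹ W) (isPGroup_cj _ hW) (by
      rw [cj_le_iff, inv_inv]; exact hWL) (by
      rw [← cj_normalizer, ← cj_le_iff]; exact hLW)
    rw [cj_le_iff, inv_inv, cj_centralizer] at h1
    exact h1
  irr := by
    intro U hU hLU
    rcases h.irr (cj g⁻¹ U) (by rw [cj_le_iff, inv_inv]; exact hU) (by
      rw [← cj_normalizer, ← cj_le_iff]; exact hLU) with h1 | h1
    · left
      rw [cj_le_iff, inv_inv, cj_centralizer] at h1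
      exact h1
    · right
      rw [← cj_le_iff] at h1
      exact h1
  perf := by
    have h1 := cj_mono g h.perf
    have h2 : cj g ⁅V, L⁆ = ⁅cj g V, cj g L⁆ := Subgroup.map_commutator _ _ _
    rwa [h2] at h1

theorem FBlk.conj {S L V : Subgroup G} (h : FBlk S L V) {n : G} (hn : n ∈ normalizer (bau S : Set G)) :
    FBlk S (cj n L) (cj n V) := by
  obtain ⟨⟨Z, q, h1⟩, h2⟩ := h
  have h3 := h1.conj n
  have h4 := block_conj h2 n
  rw [cj_eq_of_mem_normalizer hn] at h3 h4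
  exact ⟨⟨_, _, h3⟩, h4⟩

/-- The family of all FF-blocks over `bau S`: it remains to know `Z_J ≤ ∏ V_L`. -/
theorem fam [Finite G] {S : Sylow 2 G}
    (h : zj (S : Subgroup G) ≤ ⨆ i : {x : Subgroup G × Subgroup G // FBlk (S : Subgroup G) x.1 x.2}, i.1.2) :
    Fam S (FBlk (S : Subgroup G)) where
  blk := fun _ _ h => h.blk
  conj := fun _ hn _ _ h => h.conj hn
  zj_le := h

/-! ### Offenders -/

section

variable [Finite G] {T H : Subgroup G}

/-- `C_T(V_H) = O₂(H)` -/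
theorem inf_cent (hT : Syl T H) (hP : IsMinPar T H) (hZ : ¬ H ≤ centralizer (zc T : Set G)) :
    T ⊓ centralizer (zl T H : Set G) ≤ o2 H := by
  have hfact : Fact (Nat.Prime 2) := ⟨Nat.prime_two⟩
  rcases hP.sup_eq_or_inf_le (p := 2) hT.2.1 (syl_not_dvd hT) (N := H ⊓ centralizer (zl T H : Set G)) inf_le_left
      (MinSimple.VModule.le_normalizer_centralizer_zl T H) with h1 | h1
  · exfalso
    apply hZ
    rw [← h1]
    exact sup_le (inf_le_right.trans (centralizer_le (MinSimple.VModule.zc_le_zl T H)))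
      (MinSimple.VModule.le_centralizer_zc T)
  · refine le_trans ?_ h1
    exact fun x hx => ⟨hx.1, hT.1 hx.1, hx.2⟩

theorem zl_elem (hT : Syl T H) (hc : H ⊓ centralizer (o2 H : Set G) ≤ o2 H) :
    IsElementaryAbelian 2 (zl T H) := by
  have h1 := MinSimple.VModule.zl_le_zc hT.1 hT.2.1 (syl_not_dvd hT) hc
  refine ⟨⟨⟨fun a b => Subtype.ext ?_⟩⟩, fun a ha => (mem_zc.1 (h1 ha)).2.1⟩
  have ha := mem_zc.1 (h1 a.2)
  have hb := mem_zc.1 (h1 b.2)
  exact hb.2.2 _ ha.1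

/-- an offender in `A(T)` -/
theorem exists_off (hT : Syl T H) (hP : IsMinPar T H) (hc : H ⊓ centralizer (o2 H : Set G) ≤ o2 H)
    (hJ : ¬ jj T ≤ o2 H) (hZ : ¬ H ≤ centralizer (zc T : Set G)) : ∃ A ∈ AA T, Off (zl T H) A := by
  obtain ⟨A, hA, hAO⟩ : ∃ A ∈ AA T, ¬ A ≤ o2 H := by
    by_contra hcon
    push Not at hcon
    apply hJ
    rw [jj_eq]
    exact sSup_le hcon
  have hVT : zl T H ≤ T :=
    ((MinSimple.VModule.zl_le_zc hT.1 hT.2.1 (syl_not_dvd hT) hc).trans (zc_le _)).trans (o2_le_syl hT)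
  exact ⟨A, hA, FFThm.off_of_AA (zl_elem hT hc) hVT hA fun h => hAO fun a ha =>
    inf_cent hT hP hZ ⟨hA.2.1 ha, h ha⟩⟩

/-- **Minimal parabolics which move `Ω₁(Z(T))` are generated by `T` and an FF-block over `B`.** -/
theorem blkGen (hFF : FFThm.Stmt.{u}) (S : Sylow 2 G) (hT : Syl T H) (hB : bau (S : Subgroup G) ≤ T)
    (hP : IsMinPar T H) (hc : H ⊓ centralizer (o2 H : Set G) ≤ o2 H) :
    Dich.BlkGen (S : Subgroup G) (FBlk (S : Subgroup G)) T H := by
  intro hJ hZ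
  have hbau : bau T = bau (S : Subgroup G) := LemmaK.Main.bau_eq S hT.2.1 hB
  have hw : WeakNormal 2 (bau T) := by
    rw [hbau]
    exact fun R hR hBR => le_normalizer_bau S hR hBR
  obtain ⟨A, hA, hoff⟩ := exists_off hT hP hc hJ hZ
  obtain ⟨hno, hcon⟩ := hFF G T H hT hP hc ⟨A, hA.2.1.trans hT.1, hoff⟩
  have hm := SQ1.FFOne.minH_of hT hP hc
  rcases hcon with ⟨F, _, _, _, k, hk, ⟨M⟩⟩ | ⟨k, m, hk, hm2, ⟨M⟩⟩
  · have : Nonempty (Fin k) := ⟨⟨0, hk⟩⟩
    set N := (SQ1.FFOne.natKB_of hT hc hJ hk M).toFFK hm with hN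
    obtain ⟨E, hE⟩ := N.toInK hm
    obtain ⟨L, hL⟩ := hE.exists_blk ⟨0, hk⟩
    have hpb := FBK.pb hm N hE hw hL
    have hF : FBlk (S : Subgroup G) L ⁅N.N ⟨0, hk⟩, L⁆ := by
      exact ⟨⟨_, _, by rw [← hbau]; exact hpb.fb⟩, by rw [← hbau]; exact hpb.block hw⟩
    exact hL.sup_T hE le_sup_right (le_sup_of_le_left (Dich.blk_le_K0 hF))
  · have h := syT_of hm hJ M hk (by omega) SQ1.FFOf.cv_le SQ1.FFOf.cv_norm
    obtain ⟨ι, J, X, Y, t, r, c⟩ := h.exists_ch
    have hin := c.main h Cfsg.Agent.Omega.SQ1.SymCyc.exists_pow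
    obtain ⟨j, x, y, hTr⟩ := h.exists_tr
    obtain ⟨i, -⟩ := c.ex j x y hTr
    obtain ⟨L, hL⟩ := hin.exists_blk i
    have hpb := FBS.pb hin hw hL
    have hF : FBlk (S : Subgroup G) L ⁅h.NN (J i) 0 (X i) (Y i), L⁆ := by
      exact ⟨⟨_, _, by rw [← hbau]; exact hpb.fb⟩, by rw [← hbau]; exact hpb.block hw⟩
    exact hL.sup_T hin le_sup_right (le_sup_of_le_left (Dich.blk_le_K0 hF))

/-- **(O1+)** for the family of all FF-blocks over `B`. -/
theorem gen (hFF : FFThm.Stmt.{u}) (hA : FFBr.AStmt.{u}) {S : Sylow 2 G} {M : Subgroup G}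
    (hK : K0 (S : Subgroup G) (FBlk (S : Subgroup G)) ≤ M) (hN : normalizer (bau (S : Subgroup G) : Set G) ≤ M)
    (hT : Syl T H) (hB : bau (S : Subgroup G) ≤ T) (hc : H ⊓ centralizer (o2 H : Set G) ≤ o2 H) :
    H ≤ (H ⊓ M) ⊔ ⨆ Y : {Y : Subgroup G // IsMinPar T Y ∧ Y ≤ H ∧ ¬ jj T ≤ o2 Y ∧
      Y ≤ centralizer (zc T : Set G) ∧ ¬ o2 Y ≤ bau (S : Subgroup G)}, (Y : Subgroup G) := by
  have hsyl : ∀ Y : Subgroup G, IsMinPar T Y → Y ≤ H → Syl T Y := fun Y hY hYH =>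
    ⟨hY.le, hT.2.1, fun Q hQ h2 hTQ => hT.2.2 Q (hQ.trans hYH) h2 hTQ⟩
  have hcY : ∀ Y : Subgroup G, IsMinPar T Y → Y ≤ H → Y ⊓ centralizer (o2 Y : Set G) ≤ o2 Y := by
    intro Y hY hYH
    have h4 : o2 H ≤ o2 Y :=
      le_o2 (isPGroup_o2 H) ((o2_le_syl hT).trans hY.le) (hYH.trans (le_normalizer_o2 H))
    rintro x ⟨hx, hxc⟩
    exact h4 (hc ⟨hYH hx, centralizer_le (by exact_mod_cast h4) hxc⟩)
  exact Dich.gen hK hN hT hB hc (fun Y hY hYH => FixPt.fixPt hA (hsyl Y hY hYH) hY)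
    fun Y hY hYH => blkGen hFF S (hsyl Y hY hYH) hB hY (hcY Y hY hYH)

end

end Cfsg.Agent.Omega.OM.BlkGen

end
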