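import Cfsg.Agent.Mrg.Omega.VP
import Cfsg.Agent.Mrg.Omega.OM.Uni
import Cfsg.Agent.Mrg.Omega.SQ1.Choice
import Cfsg.Agent.Mrg.Omega.LemmaK
import Cfsg.Agent.Mrg.Omega.OM.NX
import Cfsg.Agent.Mrg.Omega.OM.ROneNat

-- merged: Cfsg.Agent.Mrg.Omega.OM.LocB
section

/-!
# NOFF: `⟨P, N_G(B)⟩` is local for every `B` between `O₂(P)` and `S`

Paper: helper477 #13961 (referee report on OM1 = #13281 of helper4), K-free, for a family of parabolics.
`S`, `Z`, `F` as in `NoFF.Basic.Sys` (no mutual noncommuting pair), `B ≤ S` contains `C_S(V_P)` for all `P ∈ F`,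
`N` normalises `B`.  Then all conjugates of all `V_P` under `H = ⟨N, F⟩` lie in all `C_S(V_P')`; so they
generate an abelian normal subgroup of `H`.
-/

set_option autoImplicit false

namespace Cfsg.Agent.Omega.OM.LocB

open Subgroup Cfsg Cfsg.Agent.ZN Cfsg.Agent.Omega.MinPar Cfsg.Agent.Omega.Frame
open Cfsg.Agent.Omega.NoFF.Basic
open Cfsg.Agent.MinSimple.VModule
open scoped Pointwise

universe u

section abs

variable {G : Type*} [Group G] {S Z B N : Subgroup G} {F : Set (Subgroup G)}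

/-- `C_S(V_P) ≤ B ≤ S` for all `P ∈ F`, and `N` normalises `B`. -/
structure Bau (S Z B N : Subgroup G) (F : Set (Subgroup G)) : Prop extends Sys S Z F where
  BS : B ≤ S
  le_B : ∀ P ∈ F, S ⊓ centralizer (V Z P : Set G) ≤ B
  NB : ∀ n ∈ N, MulAut.conj n • B = B

theorem conj_core {P : Subgroup G} (D : Sys S Z F) (hP : P ∈ F) {p : G} (hp : p ∈ P) :
    MulAut.conj p • (S ⊓ centralizer (V Z P : Set G)) ≤ S ⊓ centralizer (V Z P : Set G) := by
  intro x hx
  rw [mem_conj] at hx
  have hc : x ∈ centralizer (V Z P : Set G) := by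
    rw [mem_centralizer_iff]
    intro y hy
    have hy' : p⁻¹ * y * p ∈ V Z P := by
      have h1 : MulAut.conj p • V Z P = V Z P := by
        have := conj_V_mul (Z := Z) (P := P) (g := 1) hp
        rwa [one_mul, map_one, one_smul] at this
      have hy2 : y ∈ MulAut.conj p • V Z P := by rw [h1]; exact hy
      exact mem_conj.1 hy2
    have h2 := congrArg (fun t => p * t * p⁻¹) (mem_centralizer_iff.1 hx.2 _ hy')
    simpa [mul_assoc] using h2
  refine ⟨?_, hc⟩
  -- `p⁻¹ x p ∈ S ∩ C(V)`, so `p⁻¹ x p ∈ p⁻¹ S p`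
  have h3 := D.core P hP p⁻¹ (P.inv_mem hp) _ hx.1 hx.2
  rw [mem_conj] at h3
  simpa [mul_assoc] using h3

/-- A letter. -/
def Ok (N : Subgroup G) (F : Set (Subgroup G)) (g : G) : Prop := g ∈ N ∨ ∃ P ∈ F, g ∈ P

theorem Ok.inv {g : G} (h : Ok N F g) : Ok N F g⁻¹ := by
  rcases h with h | ⟨P, hP, h⟩
  · exact Or.inl (N.inv_mem h)
  · exact Or.inr ⟨P, hP, P.inv_mem h⟩

variable (D : Bau S Z B N F)
include D

/-- A letter maps a subgroup of all `C_S(V_P)` into `B`. -/
theorem Bau.step {g : G} (hg : Ok N F g) {A : Subgroup G} (hA : ∀ P ∈ F, A ≤ S ⊓ centralizer (V Z P : Set G))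
    (hne : F.Nonempty) : MulAut.conj g • A ≤ B := by
  rcases hg with hg | ⟨P, hP, hg⟩
  · obtain ⟨P, hP⟩ := hne
    calc MulAut.conj g • A ≤ MulAut.conj g • B := conj_le_iff.2 ((hA P hP).trans (D.le_B P hP))
      _ = B := D.NB g hg
  · calc MulAut.conj g • A ≤ MulAut.conj g • (S ⊓ centralizer (V Z P : Set G)) := conj_le_iff.2 (hA P hP)
      _ ≤ S ⊓ centralizer (V Z P : Set G) := conj_core D.toSys hP hg
      _ ≤ B := D.le_B P hP

theorem Bau.word (n : ℕ) : ∀ l : List G, l.length = n → (∀ g ∈ l, Ok N F g) → ∀ P ∈ F, ∀ P' ∈ F,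
    MulAut.conj l.prod • V Z P ≤ S ⊓ centralizer (V Z P' : Set G) := by
  have key : ∀ h : G, (∀ P ∈ F, MulAut.conj h • V Z P ≤ B) → (∀ P ∈ F, MulAut.conj h⁻¹ • V Z P ≤ B) →
      ∀ P ∈ F, ∀ P' ∈ F, MulAut.conj h • V Z P ≤ S ⊓ centralizer (V Z P' : Set G) := by
    intro h h1 h2 P hP P' hP'
    refine le_inf ((h1 P hP).trans D.BS) ?_
    have h3 := D.noff' hP hP' (g := h) (h := 1) (by
      rw [map_one, one_smul]
      exact ((h1 P hP).trans D.BS).trans (D.SP P' hP')) (by
      rw [map_one, one_smul]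
      have h4 := ((h2 P' hP').trans D.BS).trans (D.SP P hP)
      have h5 := conj_le_iff (g := h) |>.2 h4
      rwa [conj_conj, mul_inv_cancel, map_one, one_smul] at h5)
    rwa [map_one, one_smul] at h3
  have hV : ∀ P ∈ F, V Z P ≤ B := fun P hP =>
    (le_inf (V_le fun p hp => by
      have h0 : S ⊓ centralizer (V Z P : Set G) ≤ S ⊓ centralizer (V Z P : Set G) := le_rfl
      have hZ : Z ≤ S ⊓ centralizer (V Z P : Set G) := by
        refine le_inf D.ZS (le_trans ?_ (D.abel P hP))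
        have := Z_le_V (Z := Z) (P := P) (one_mem P)
        rwa [map_one, one_smul] at this
      exact ((conj_le_iff.2 hZ).trans (conj_core D.toSys hP hp)).trans inf_le_left)
      (D.abel P hP)).trans (D.le_B P hP)
  induction n with
  | zero =>
    intro l hl _ P hP P' hP'
    rw [List.length_eq_zero_iff] at hl
    subst hl
    exact key 1 (fun P hP => by rw [map_one, one_smul]; exact hV P hP)
      (fun P hP => by rw [inv_one, map_one, one_smul]; exact hV P hP) P hP P' hP'
  | succ n ih =>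
    have half : ∀ l : List G, l.length = n + 1 → (∀ g ∈ l, Ok N F g) → ∀ P ∈ F,
        MulAut.conj l.prod • V Z P ≤ B := by
      intro l hl hok P hP
      cases l with
      | nil => simp at hl
      | cons g l' =>
        rw [List.prod_cons, ← conj_conj]
        refine D.step (hok g (by simp)) (fun P' hP' => ?_) ⟨P, hP⟩
        exact ih l' (by simpa using hl) (fun x hx => hok x (by simp [hx])) P hP P' hP'
    intro l hl hok
    refine key _ (half l hl hok) ?_
    intro P hP
    have h1 := half (l.map (·⁻¹)).reverse (by simpa using hl) (by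
      intro g hg
      simp only [List.mem_reverse, List.mem_map] at hg
      obtain ⟨x, hx, rfl⟩ := hg
      exact (hok x hx).inv) P hP
    rwa [← List.prod_inv_reverse] at h1

theorem Bau.main {h : G} (hh : h ∈ N ⊔ sSup F) {P P' : Subgroup G} (hP : P ∈ F) (hP' : P' ∈ F) :
    MulAut.conj h • V Z P ≤ S ⊓ centralizer (V Z P' : Set G) := by
  have h1 : N ⊔ sSup F ≤ closure {g : G | Ok N F g} := by
    refine sup_le (fun g hg => subset_closure (Or.inl hg)) (sSup_le fun Q hQ g hg => ?_)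
    exact subset_closure (Or.inr ⟨Q, hQ, hg⟩)
  have h2 : ∃ l : List G, (∀ g ∈ l, Ok N F g) ∧ l.prod = h := by
    have h3 := h1 hh
    clear hh
    induction h3 using closure_induction with
    | mem x hx => exact ⟨[x], fun g hg => by rw [List.mem_singleton.1 hg]; exact hx, by simp⟩
    | one => exact ⟨[], by simp, by simp⟩
    | mul x y _ _ hx hy =>
      obtain ⟨l, hl, rfl⟩ := hx
      obtain ⟨m, hm, rfl⟩ := hy
      refine ⟨l ++ m, fun g hg => ?_, by simp⟩
      rcases List.mem_append.1 hg with h | h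
      · exact hl g h
      · exact hm g h
    | inv x _ hx =>
      obtain ⟨l, hl, rfl⟩ := hx
      refine ⟨(l.map (·⁻¹)).reverse, fun g hg => ?_, (List.prod_inv_reverse _).symm⟩
      simp only [List.mem_reverse, List.mem_map] at hg
      obtain ⟨x, hx, rfl⟩ := hg
      exact (hl x hx).inv
  obtain ⟨l, hl, rfl⟩ := h2
  exact D.word l.length l rfl hl P hP P' hP'

/-- **`⟨N, F⟩` normalises an abelian subgroup of `⋂ C_S(V_P)` containing all `V_P`.** -/
theorem Bau.exists_normal : ∃ U : Subgroup G, (∀ P ∈ F, V Z P ≤ U) ∧ U ≤ centralizer (U : Set G) ∧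
    (F.Nonempty → U ≤ S) ∧ (∀ P ∈ F, U ≤ S ⊓ centralizer (V Z P : Set G)) ∧
    N ⊔ sSup F ≤ normalizer (U : Set G) := by
  set H : Subgroup G := N ⊔ sSup F with hH
  set U : Subgroup G := ⨆ i : {x : G × Subgroup G // x.1 ∈ H ∧ x.2 ∈ F}, MulAut.conj i.1.1 • V Z i.1.2 with hU
  have le_U : ∀ {h : G} {P : Subgroup G}, h ∈ H → P ∈ F → MulAut.conj h • V Z P ≤ U := fun hh hP =>
    le_iSup (fun i : {x : G × Subgroup G // x.1 ∈ H ∧ x.2 ∈ F} => MulAut.conj i.1.1 • V Z i.1.2)
      ⟨(_, _), hh, hP⟩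
  have U_le : ∀ {A : Subgroup G}, (∀ h ∈ H, ∀ P ∈ F, MulAut.conj h • V Z P ≤ A) → U ≤ A := fun h =>
    iSup_le fun i => h _ i.2.1 _ i.2.2
  have hQ : ∀ P ∈ F, U ≤ S ⊓ centralizer (V Z P : Set G) := fun P hP =>
    U_le fun h hh P' hP' => D.main hh hP' hP
  have hn : ∀ h ∈ H, MulAut.conj h • U ≤ U := by
    intro h hh
    rw [Subgroup.pointwise_smul_subset_iff]
    refine U_le fun h' hh' P hP => ?_
    rw [← Subgroup.pointwise_smul_subset_iff, conj_conj]
    exact le_U (H.mul_mem hh hh') hP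
  have hn' : H ≤ normalizer (U : Set G) := by
    intro h hh
    rw [mem_normalizer_iff]
    intro x
    constructor
    · intro hx
      apply hn h hh
      rw [mem_conj]
      simpa [mul_assoc] using hx
    · intro hx
      have := hn h⁻¹ (H.inv_mem hh)
      apply this
      rw [mem_conj]
      simpa [mul_assoc] using hx
  refine ⟨U, fun P hP => ?_, ?_, fun ⟨P, hP⟩ => (hQ P hP).trans inf_le_left, hQ, hn'⟩
  · have := le_U (one_mem H) hP
    rwa [map_one, one_smul] at this
  · refine U_le fun h hh P hP => ?_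
    apply comm_symm
    -- `U ≤ C(V_P)` and `h` normalises `U`
    have h1 : U ≤ centralizer (V Z P : Set G) := (hQ P hP).trans inf_le_right
    have h2 := conj_le_centralizer (g := h) h1
    refine le_trans ?_ h2
    have h3 := hn h⁻¹ (H.inv_mem hh)
    have h4 := conj_le_iff (g := h) |>.2 h3
    rwa [conj_conj, mul_inv_cancel, map_one, one_smul] at h4

end abs

/-! ### In the frame -/

variable {G : Type u} [Group G] [Finite G]

/-- **THEOREM (helper477).** No mutual pair; `F ⊆ P*(S)` nonempty, `O₂(P) ≤ B ≤ S` for all `P ∈ F`.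
Then `⟨N_G(B), F⟩` normalises a nontrivial elementary abelian subgroup `U ≤ B` containing all `V_P`. -/
theorem exists_local (hc : IsCharacteristicTwoType G) (S : Sylow 2 G) (hm : ¬ FF (S : Subgroup G))
    {B : Subgroup G} (hB : B ≤ (S : Subgroup G)) {F : Set (Subgroup G)}
    (hF : ∀ P ∈ F, IsParS (S : Subgroup G) P ∧ o2 P ≤ B) (hne : F.Nonempty) (hS : (S : Subgroup G) ≠ ⊥) :
    ∃ U : Subgroup G, U ≠ ⊥ ∧ IsPGroup 2 U ∧ U ≤ B ∧ U ≤ centralizer (U : Set G) ∧
      normalizer (B : Set G) ≤ normalizer (U : Set G) ∧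
      ∀ P ∈ F, zl (S : Subgroup G) P ≤ U ∧ U ≤ o2 P ∧ P ≤ normalizer (U : Set G) := by
  have hQ : ∀ P ∈ F, (S : Subgroup G) ⊓ centralizer (V (zc (S : Subgroup G)) P : Set G) = o2 P :=
    fun P hP => (hF P hP).1.inf_centralizer S hc
  have D0 := FrameNOFF.sys hc S hm
  have D : Bau (S : Subgroup G) (zc (S : Subgroup G)) B (normalizer (B : Set G)) F :=
    { ZS := D0.ZS
      cent := D0.cent
      SP := fun P hP => D0.SP P (hF P hP).1
      abel := fun P hP => D0.abel P (hF P hP).1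
      core := fun P hP => D0.core P (hF P hP).1
      noff := fun P hP P' hP' => D0.noff P (hF P hP).1 P' (hF P' hP').1
      BS := hB
      le_B := fun P hP => (hQ P hP).le.trans (hF P hP).2
      NB := fun n hn => NoFF.Main.conj_eq_of_mem_normalizer hn }
  obtain ⟨U, h1, h2, h3, h4, h5⟩ := D.exists_normal
  obtain ⟨P, hP⟩ := hne
  have hUS : U ≤ (S : Subgroup G) := h3 ⟨P, hP⟩
  refine ⟨U, ?_, ?_, ?_, h2, le_sup_left.trans h5, fun P hP => ⟨h1 P hP, hQ P hP ▸ h4 P hP, ?_⟩⟩
  · intro h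
    apply MinSimple.Basic.zc_ne_bot S.isPGroup' hS
    rw [eq_bot_iff, ← h]
    exact (zc_le_zl _ P).trans (h1 P hP)
  · exact S.isPGroup'.to_le hUS
  · exact (h4 P hP).trans (D.le_B P hP)
  · exact (le_sSup hP).trans (le_sup_right.trans h5)

end Cfsg.Agent.Omega.OM.LocB

end

-- merged: Cfsg.Agent.Mrg.Omega.OM.UOne
section

section


/-!
# (U1): `N_G(B) ≤ N_G(V_P)` and `N_G(B)` permutes the `Z i`
-/

set_option autoImplicit false

namespace Cfsg.Agent.Omega.OM.Uni

open Subgroup Cfsg Cfsg.Agent.ZN Cfsg.Agent.ZN.ChoiceBase Cfsg.Agent.Omega.Frame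
open Cfsg.Agent.Omega.MinPar
open Cfsg.Agent.Omega.OM.BlockUniq (Mx)

universe u

variable {G : Type u} [Group G] [Finite G]

/-- `m(S)` bounds the orders of all elementary abelian 2-subgroups. -/
theorem mx_sylow (S : Sylow 2 G) : Mx G (mm (S : Subgroup G)) := by
  intro E hE
  have h2 : IsPGroup 2 E := by
    intro x
    exact ⟨1, by rw [pow_one]; exact Subtype.ext (SQ1.Bau.elem_sq hE x x.2)⟩
  obtain ⟨S', hS'⟩ := h2.exists_le_sylow
  obtain ⟨g, hg⟩ := MulAction.exists_smul_eq G S S'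
  have hg2 : (S' : Subgroup G) = cj g (S : Subgroup G) := by
    rw [← hg, Sylow.coe_subgroup_smul]
    rfl
  have h1 := card_le_mm hE hS'
  rwa [hg2, mm_cj] at h1

/-- **(U1)** in a group of characteristic 2 type without mutual pairs. -/
theorem norm_bau (hc : IsCharacteristicTwoType G) (S : Sylow 2 G) (hm : ¬ FF (S : Subgroup G)) {P : Subgroup G}
    (hP : IsParS (S : Subgroup G) P) (hS : (S : Subgroup G) ≠ ⊥) {ι : Type*} [Finite ι] {Q ZJ : Subgroup G}
    {L W Z C A : ι → Subgroup G} {q m : ℕ}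
    (h : Fr (bau (S : Subgroup G)) Q (zl (S : Subgroup G) P) ZJ L W Z C A q m)
    (hQ : o2 P ≤ bau (S : Subgroup G)) {g : G} (hg : g ∈ normalizer (bau (S : Subgroup G) : Set G)) :
    cj g (zl (S : Subgroup G) P) = zl (S : Subgroup G) P ∧ ∀ i, ∃ j, cj g (Z i) = Z j ∧ cj g (W i) ≤ W j ⊔ ZJ := by
  obtain ⟨U, -, -, -, hU, hUn, hUP⟩ := LocB.exists_local hc S hm (ChoiceBase.bau_le _) (F := {P})
    (by rintro _ rfl; exact ⟨hP, hQ⟩) ⟨P, rfl⟩ hS
  have hVU := (hUP P rfl).1
  refine h.norm_of hg fun w hw v hv => ?_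
  have h1 : w ∈ U := by
    have h2 := cj_mono g hVU hw
    rwa [cj_eq_of_mem_normalizer (hUn hg)] at h2
  exact mem_centralizer_iff.1 (hU (hVU hv)) w h1

end Cfsg.Agent.Omega.OM.Uni

end

section


/-!
# A natural FF-block is a block in the sense of LEMMA K

* `FB.nat_tri`, `FB.exists_mv` : conjugates of `Z` in the natural block;
* `FB.core` : a 2-subgroup normalised by `L` and contained in `L` centralises `V`;
* `FB.toBlock` : `LemmaK.Block 2 B L V`.
-/

set_option autoImplicit false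

namespace Cfsg.Agent.Omega.OM.Uni

open Subgroup Cfsg Cfsg.Agent.PLocal.ThompsonJ Cfsg.Agent.ZN Cfsg.Agent.ZN.ChoiceBase
open Cfsg.Agent.PLocal.ElemAbSup
open Cfsg.Agent.Omega.SQ1.Bau (mem_sup_comm card_sup_comm elem_comm elem_sq)
open Cfsg.Agent.Omega.SQ1.FFOne (mem_norm_of)
open Cfsg.Agent.Omega.LemmaK (Block WeakNormal)
open scoped Pointwise commutatorElement

universe u

variable {G : Type u} [Group G]

theorem isPGroup_of_el {E : Subgroup G} (h : IsElementaryAbelian 2 E) : IsPGroup 2 E := by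
  intro x
  exact ⟨1, by rw [pow_one]; exact Subtype.ext (elem_sq h x x.2)⟩

namespace FB

variable {B L V Z : Subgroup G} {q : ℕ}

theorem comm_le' (h : FB B L V Z q) : ⁅V, B⁆ ≤ Z := h.toMd.comm_le le_rfl

theorem cjZ_le (h : FB B L V Z q) {l : G} (hl : l ∈ L) : cj l Z ≤ V := by
  rintro _ ⟨z, hz, rfl⟩
  exact h.nV l hl z (h.ZV hz)

theorem exists_mv (h : FB B L V Z q) [Finite G] : ∃ l ∈ L, cj l Z ≠ Z ∧ V = Z ⊔ cj l Z := by
  obtain ⟨k, hk, hs⟩ := h.sup
  have h3 : V = Z ⊔ cj k Z := le_antisymm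
    (hs.trans (sup_le (h.comm_le'.trans le_sup_left) ((cj_mono k h.comm_le').trans le_sup_right)))
    (sup_le h.ZV (h.cjZ_le hk))
  refine ⟨k, hk, fun e => ?_, h3⟩
  rw [e, sup_idem] at h3
  have h4 := h.card
  rw [h3] at h4
  have h5 : 0 < Nat.card Z := Nat.card_pos
  have h6 := h.one
  nlinarith

/-- in a natural block the conjugates of `Z` are equal or meet trivially -/
theorem nat_tri (h : FB B L V Z q) [Finite G] (hq : Nat.card Z = q) {l : G} (hl : l ∈ L) (hne : cj l Z ≠ Z) :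
    cj l Z ⊓ Z = ⊥ := by
  rcases h.tri l hl with h1 | h1
  · exact absurd h1 hne
  obtain ⟨k, hk, -, hs⟩ := h.exists_mv
  have hcc := card_sup_comm (A := Z) (B := cj k Z) fun a ha b hb' => h.toMd.comm (h.ZV ha) (h.cjZ_le hk hb')
  rw [← hs, h.card, card_cj, hq] at hcc
  have h3 : Nat.card ↥(Z ⊓ cj k Z) = 1 := by
    have hq0 : 0 < q * q := Nat.mul_pos (by have := h.one; omega) (by have := h.one; omega)
    exact Nat.eq_of_mul_eq_mul_left hq0 (by rw [hcc, mul_one])
  have h4 : Z ⊓ cj k Z = ⊥ := by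
    rw [← Subgroup.card_eq_one]; exact h3
  rw [eq_bot_iff]
  intro x hx
  have hxc := h1 hx
  have h5 : x ∈ Z ⊓ cj k Z := by
    refine mem_inf.2 ⟨(mem_inf.1 hx).2, ?_⟩
    rw [mem_cj]
    have h3 := mem_centralizer_iff.1 hxc k hk
    have h4 : k⁻¹ * x * k = x := by
      calc k⁻¹ * x * k = k⁻¹ * (x * k) := by group
        _ = k⁻¹ * (k * x) := by rw [h3]
        _ = x := by group
    rw [h4]; exact (mem_inf.1 hx).2
  rwa [h4] at h5

/-- a 2-subgroup of `L` normalised by `L` centralises `V` -/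
theorem core (h : FB B L V Z q) [Finite G] (hB : IsPGroup 2 B) {R : Subgroup G} (hR : IsPGroup 2 R) (hRL : R ≤ L)
    (hn : L ≤ normalizer (R : Set G)) : R ≤ centralizer (V : Set G) := by
  have h2 : IsPGroup 2 (B ⊔ R : Subgroup G) := IsPGroup.to_sup_of_normal_right' hB hR (h.BL.trans hn)
  have h1 : B ⊔ R = B := h.syl _ le_sup_left (sup_le h.BL hRL) h2
  have hRB : R ≤ B := by rw [← h1]; exact le_sup_right
  intro r hr
  rw [mem_centralizer_iff]
  by_contra hcon
  push Not at hcon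
  obtain ⟨v, hv, hrv⟩ := hcon
  obtain ⟨l, hl, hne, -⟩ := h.exists_mv
  apply hne
  -- `C_V(r) = Z` and `C_V(r) = Z^l`
  have hM := h.toMd.conj l
  have hcjV : cj l V = V := by
    apply le_antisymm
    · rintro _ ⟨w, hw, rfl⟩
      exact h.nV l hl w hw
    · intro w hw
      rw [mem_cj]
      exact h.nV' hl hw
  rw [hcjV] at hM
  have hrl : r ∈ cj l B := by
    have h3 : cj l R = R := cj_eq_of_mem_normalizer (hn hl)
    rw [← h3] at hr
    exact cj_mono l hRB hr
  have hne' : ¬ ∀ u ∈ V, r * u = u * r := fun h1 => hrv (h1 v hv).symm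
  have e : ∀ Z' : Subgroup G, ∀ B' : Subgroup G, Md B' V Z' q → r ∈ B' → Z' = V ⊓ centralizer ({r} : Set G) := by
    intro Z' B' hM' hrB'
    apply le_antisymm
    · intro z hz
      exact mem_inf.2 ⟨hM'.ZV hz, mem_centralizer_singleton_iff.2 (hM'.cZ r hrB' z hz).symm⟩
    · intro z hz
      obtain ⟨h3, h4⟩ := mem_inf.1 hz
      exact hM'.mem_Z hrB' hne' h3 (mem_centralizer_singleton_iff.1 h4).symm
  rw [e _ _ hM hrl, ← e _ _ h.toMd (hRB hr)]

theorem Z_le_zc (h : FB B L V Z q) : Z ≤ zc B := fun z hz =>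
  ChoiceBase.mem_zc.2 ⟨h.VB (h.ZV hz), elem_sq h.el z (h.ZV hz), fun b hb => h.cZ b hb z hz⟩

theorem perf (h : FB B L V Z q) : V ≤ ⁅V, L⁆ := by
  obtain ⟨k, hk, hs⟩ := h.sup
  refine hs.trans (sup_le (commutator_mono le_rfl h.BL) ?_)
  have h1 : cj k ⁅V, B⁆ = ⁅cj k V, cj k B⁆ := Subgroup.map_commutator _ _ _
  rw [h1]
  refine commutator_mono ?_ ?_
  · rintro _ ⟨w, hw, rfl⟩
    exact h.nV k hk w hw
  · rintro _ ⟨w, hw, rfl⟩
    exact mul_mem (mul_mem hk (h.BL hw)) (inv_mem hk)

theorem LV (h : FB B L V Z q) [Finite G] : L ≤ normalizer (V : Set G) := fun l hl =>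
  mem_norm_of fun v hv => h.nV l hl v hv

/-- `V = [⟨Ω₁Z(B)^L⟩, L]` -/
theorem V_eq (h : FB B L V Z q) [Finite G] : V = ⁅(⨆ x : L, MulAut.conj (x : G) • zc B : Subgroup G), L⁆ := by
  apply le_antisymm
  · refine h.perf.trans (commutator_mono ?_ le_rfl)
    obtain ⟨k, hk, -, hs⟩ := h.exists_mv
    have h1 : ∀ x : G, x ∈ L → cj x Z ≤ ⨆ x : L, MulAut.conj (x : G) • zc B := fun x hx =>
      (cj_mono x h.Z_le_zc).trans (le_iSup (fun x : L => (MulAut.conj (x : G) • zc B : Subgroup G)) ⟨x, hx⟩)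
    rw [hs]
    refine sup_le ?_ (h1 k hk)
    have := h1 1 (one_mem L)
    rwa [cj_one] at this
  · have hU : (⨆ x : L, MulAut.conj (x : G) • zc B : Subgroup G) ≤ zc B ⊔ V := by
      refine iSup_le fun x => ?_
      rintro _ ⟨z, hz, rfl⟩
      have h1 := h.act x x.2 z hz
      have e : (x : G) * z * (x : G)⁻¹ = ((x : G) * z * (x : G)⁻¹ * z⁻¹) * z := by group
      show (x : G) * z * (x : G)⁻¹ ∈ _
      rw [e]
      exact mul_mem (mem_sup_right h1) (mem_sup_left hz)
    refine (commutator_mono hU le_rfl).trans ?_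
    rw [Subgroup.commutator_le]
    intro u hu l hl
    have hzV : ∀ z ∈ zc B, ∀ v ∈ V, z * v = v * z := fun z hz v hv =>
      ((ChoiceBase.mem_zc.1 hz).2.2 v (h.VB hv)).symm
    obtain ⟨z, hz, v, hv, rfl⟩ := mem_sup_comm hzV hu
    have h1 := h.act l hl z hz
    have h2 := h.nV l hl v hv
    have h3 : l * (z * v) * l⁻¹ * (z * v)⁻¹ ∈ V := by
      have e : l * (z * v) * l⁻¹ * (z * v)⁻¹ = (l * z * l⁻¹ * z⁻¹) * (z * (l * v * l⁻¹ * v⁻¹) * z⁻¹) := by group
      rw [e]
      refine mul_mem h1 ?_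
      have h4 := mul_mem h2 (inv_mem hv)
      rw [hzV z hz _ h4, mul_inv_cancel_right]
      exact h4
    have e : ⁅z * v, l⁆ = (l * (z * v) * l⁻¹ * (z * v)⁻¹)⁻¹ := by rw [commutatorElement_def]; group
    rw [e]
    exact inv_mem h3

/-- A natural FF-block is a block in the sense of LEMMA K. -/
theorem toBlock (h : FB B L V Z q) [Finite G] (hq : Nat.card Z = q) (hB : IsPGroup 2 B) (hW : WeakNormal 2 B) :
    Block 2 B L V where
  two := hB
  le := h.BL
  nor := hW
  gen := h.gen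
  inv := by
    intro g hg
    exact LemmaK.inv_of h.BL h.gen (normalizer_le_normalizer_zc B) le_rfl h.V_eq g hg
  Vp := isPGroup_of_el h.el
  VL := h.VB.trans h.BL
  LV := h.LV
  core := fun R h1 h2 h3 => h.core hB h1 h2 h3
  perf := h.perf
  irr := by
    intro U hU hn
    by_cases hUZ : U ≤ Z
    · left
      obtain ⟨l, hl, hne, -⟩ := h.exists_mv
      have h1 := h.nat_tri hq hl hne
      have h2 : U ≤ cj l Z ⊓ Z := by
        refine le_inf ?_ hUZ
        have h3 : cj l U = U := cj_eq_of_mem_normalizer (hn hl)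
        rw [← h3]
        exact cj_mono l hUZ
      rw [h1, le_bot_iff] at h2
      rw [h2]
      exact bot_le
    · right
      obtain ⟨u, hu, huZ⟩ := SetLike.not_le_iff_exists.1 hUZ
      -- `Z ≤ U`
      have hZU : Z ≤ U := by
        obtain ⟨R, hR1, hR2, hR3, hR4⟩ := h.toMd.relIndex_comm le_rfl (hU hu) huZ
        have hRU : R ≤ U := by
          intro r hr
          obtain ⟨x, hx, rfl⟩ := hR2 r hr
          exact mul_mem ((mem_normalizer_iff.1 (hn (h.BL hx)) u).1 hu) (inv_mem hu)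
        -- `U` is not contained in `Z`, so `U Z^l`...
        have hUV : Nat.card R ≠ 1 := by
          intro h1
          have h2 : R = ⊥ := Subgroup.card_eq_one.1 h1
          obtain ⟨b, hb, v, hv, hbv⟩ := h.ne
          have h3 := hR3 b hb
          rw [h2, mem_bot] at h3
          exact hbv (h.free b hb u (hU hu) huZ (mul_inv_eq_iff_eq_mul.1 (mul_inv_eq_one.1 h3)) v hv)
        obtain ⟨r, hr, hr1⟩ : ∃ r ∈ R, r ≠ 1 := by
          by_contra hcon
          push Not at hcon
          exact hUV (Subgroup.card_eq_one.2 ((eq_bot_iff).2 fun x hx => by rw [mem_bot]; exact hcon x hx))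
        have hrU := hRU hr
        have hrZ := hR1 hr
        -- `N_L(B)` is transitive on `Z - 1`
        have hnc : ∀ z ∈ Z, z ≠ 1 → z ∉ centralizer (L : Set G) := by
          intro z hz hz1 hzc
          obtain ⟨l, hl, hne, -⟩ := h.exists_mv
          have h1 := h.nat_tri hq hl hne
          have h2 : z ∈ cj l Z ⊓ Z := by
            refine mem_inf.2 ⟨?_, hz⟩
            rw [mem_cj]
            have h3 := mem_centralizer_iff.1 hzc l hl
            have h4 : l⁻¹ * z * l = z := by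
              calc l⁻¹ * z * l = l⁻¹ * (z * l) := by group
                _ = l⁻¹ * (l * z) := by rw [h3]
                _ = z := by group
            rwa [h4]
          rw [h1, mem_bot] at h2
          exact hz1 h2
        intro z hz
        by_cases hz1 : z = 1
        · rw [hz1]; exact one_mem _
        obtain ⟨x, hx, hxn, hxc⟩ := h.tor r hrZ (hnc r hrZ hr1) z hz (hnc z hz hz1)
        have h5 : x * r * x⁻¹ * z⁻¹ ∈ Z := by
          refine mul_mem ?_ (inv_mem hz)
          -- `x` normalises `B`, so `Z = C_V(B)`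
          refine h.toMd.mem_Z_iff.2 ⟨h.nV x hx r (h.ZV hrZ), fun b hb => ?_⟩
          have hb' : x⁻¹ * b * x ∈ B := by
            have := (mem_normalizer_iff''.1 hxn b).1 hb
            exact this
          have h6 := h.cZ _ hb' r hrZ
          have h7 := congrArg (fun t => x * t * x⁻¹) h6
          simpa [mul_assoc] using h7
        have h6 : x * r * x⁻¹ * z⁻¹ = 1 := by
          by_contra hne
          exact hnc _ h5 hne hxc
        rw [← mul_inv_eq_one.1 h6]
        exact (mem_normalizer_iff.1 (hn hx) r).1 hrU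
      obtain ⟨l, hl, -, hs⟩ := h.exists_mv
      rw [hs]
      refine sup_le hZU ?_
      have h3 : cj l U = U := cj_eq_of_mem_normalizer (hn hl)
      rw [← h3]
      exact cj_mono l hZU

end FB

end Cfsg.Agent.Omega.OM.Uni

end

end

-- merged: Cfsg.Agent.Mrg.Omega.OM.FrNat
section

/-!
# The frame `Fr` for a minimal parabolic with natural modules

`H` a minimal parabolic over `T`, `J(T) ≰ O₂(H)`, `V = zl T H` a sum of `k` natural `SL₂(F)`-modules, `cv T H = 1`:
`natFr : ∃ L, (∀ i, L i ≤ H) ∧ Fr (bau T) (o2 H) (zl T H) (zj T) L (Wn M) (Zn M) (Cn M) A |F| (mm T)`.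
-/

set_option autoImplicit false

namespace Cfsg.Agent.Omega.OM.Uni

open Subgroup Cfsg Cfsg.Agent.PLocal.ThompsonJ Cfsg.Agent.ZN Cfsg.Agent.ZN.ChoiceBase
open Cfsg.Agent.ZN.ChoiceSit
open Cfsg.Agent.Omega.NatPair Cfsg.Agent.Lib.SL2Mat
open Cfsg.Agent.Omega.SQ1.FFOne
open Cfsg.Agent.Omega.FFThm (NatK ActsSL)
open Cfsg.Agent.Omega.FrameFF (cv)
open Cfsg.Agent.MinSimple.MinParabolic (IsMinPar)
open Cfsg.Agent.PLocal.ElemAbSup
open Cfsg.Agent.Omega.OM.BlockUniq (Mx)
open scoped Pointwise commutatorElement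

universe u

variable {G : Type u} [Group G]

/-- 2-subgroups of `H` over `bau T`, `T` Sylow in `H`. -/
theorem bau_eq_of_le [Finite G] {H T R : Subgroup G} (hT : Syl T H) (hR : R ≤ H) (h2 : IsPGroup 2 R)
    (hB : bau T ≤ R) : bau R = bau T ∧ zj R = zj T := by
  obtain ⟨S', hS', hle⟩ := exists_syl h2 hR
  obtain ⟨x, -, hx⟩ := syl_conj hS' hT
  have h1 : key R ≤ key T := by
    refine (key_mono hle).trans ?_
    rw [← hx, key_cj]
  obtain ⟨-, h2, h3, -⟩ := of_key_le hB h1
  exact ⟨h3, zj_congr h2⟩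

section

variable {F : Type} [Field F] {T H V D : Subgroup G} {k : ℕ} (M : NatKB F T H V D k)

theorem nat_inj (hD : D = ⊥) {v w : G} (hv : v ∈ V) (hw : w ∈ V) (h : M.nat.e v = M.nat.e w) : v = w := by
  have h1 : v * w⁻¹ ∈ D := by
    rw [← M.nat.ker _ (mul_mem hv (inv_mem hw)), M.map_div hv hw, h, sub_self]
  rw [hD, mem_bot] at h1
  exact mul_inv_eq_one.1 h1

/-- the `i`-th summand -/
def Wn (i : Fin k) : Subgroup G where
  carrier := {v | v ∈ V ∧ ∀ j, j ≠ i → M.nat.e v j = 0}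
  mul_mem' := by
    rintro a b ⟨ha, ha'⟩ ⟨hb, hb'⟩
    exact ⟨mul_mem ha hb, fun j hj => by rw [M.nat.mul a ha b hb, Pi.add_apply, ha' j hj, hb' j hj, add_zero]⟩
  one_mem' := ⟨one_mem _, fun j _ => by rw [M.map_one]; rfl⟩
  inv_mem' := by
    rintro a ⟨ha, ha'⟩
    exact ⟨inv_mem ha, fun j hj => by rw [M.map_inv ha, Pi.neg_apply, ha' j hj, neg_zero]⟩

/-- the complement of the `i`-th summand -/
def Cn (i : Fin k) : Subgroup G where
  carrier := {v | v ∈ V ∧ M.nat.e v i = 0}
  mul_mem' := by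
    rintro a b ⟨ha, ha'⟩ ⟨hb, hb'⟩
    exact ⟨mul_mem ha hb, by rw [M.nat.mul a ha b hb, Pi.add_apply, ha', hb', add_zero]⟩
  one_mem' := ⟨one_mem _, by rw [M.map_one]; rfl⟩
  inv_mem' := by
    rintro a ⟨ha, ha'⟩
    exact ⟨inv_mem ha, by rw [M.map_inv ha, Pi.neg_apply, ha', neg_zero]⟩

theorem mem_Wn {i : Fin k} {v : G} : v ∈ Wn M i ↔ v ∈ V ∧ ∀ j, j ≠ i → M.nat.e v j = 0 := Iff.rfl

theorem mem_Cn {i : Fin k} {v : G} : v ∈ Cn M i ↔ v ∈ V ∧ M.nat.e v i = 0 := Iff.rfl

/-- the elements of `H` acting as `SL₂` on the `i`-th summand and as upper unitriangular matrices on the others -/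
def Xn (i : Fin k) : Subgroup G where
  carrier := {h | h ∈ H ∧ ∃ A, M.Acts h A ∧ ∀ j, j ≠ i → ∃ c, A j = up c}
  mul_mem' := by
    rintro a b ⟨ha, A, hA, hA'⟩ ⟨hb, B, hB, hB'⟩
    refine ⟨mul_mem ha hb, A * B, NatKB.acts_mul hb hA hB, fun j hj => ?_⟩
    obtain ⟨c, hc⟩ := hA' j hj
    obtain ⟨d, hd⟩ := hB' j hj
    exact ⟨c + d, by rw [Pi.mul_apply, hc, hd, up_mul]⟩
  one_mem' := ⟨one_mem _, 1, NatKB.acts_one, fun j _ => ⟨0, by rw [up_zero]; rfl⟩⟩
  inv_mem' := by
    rintro a ⟨ha, A, hA, hA'⟩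
    refine ⟨inv_mem ha, A⁻¹, NatKB.acts_inv ha hA, fun j hj => ?_⟩
    obtain ⟨c, hc⟩ := hA' j hj
    exact ⟨-c, by rw [Pi.inv_apply, hc, up_inv]⟩

theorem mem_Xn {i : Fin k} {h : G} : h ∈ Xn M i ↔ h ∈ H ∧ ∃ A, M.Acts h A ∧ ∀ j, j ≠ i → ∃ c, A j = up c := Iff.rfl

end

section

variable {F : Type} [Field F] {T H D : Subgroup G} {k : ℕ}

/-- The natural pre-block. -/
noncomputable def natNX [Finite G] [CharP F 2] (hT : Syl T H) (hD : D = ⊥) (M : NatKB F T H (zl T H) D k)
    (hM : ∀ (v : G), v ∈ zj T ↔ v ∈ zl T H ∧ ∀ i, M.nat.e v i 1 = 0)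
    (hup : ∀ b ∈ bau T, ∃ c : Fin k → F, M.Acts b fun i => up (c i))
    (hupc : ∀ c : Fin k → F, ∃ b ∈ bau T, M.Acts b fun i => up (c i))
    (hQ : o2 H ≤ bau T) (i : Fin k) : NX F (bau T) (Xn M i) (Wn M i) := by
  classical
  exact
  { π := fun g => M.nat.e g i
    mul := fun v hv w hw => by rw [M.nat.mul v hv.1 w hw.1]; rfl
    inj := fun v hv h => by
      refine nat_inj M hD hv.1 (one_mem _) ?_
      rw [M.map_one]
      funext j
      by_cases hj : j = i
      · rw [hj]; exact h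
      · exact hv.2 j hj
    surj := fun x => by
      obtain ⟨v, hv, e⟩ := M.nat.surj (Function.update 0 i x)
      exact ⟨v, ⟨hv, fun j hj => by rw [e, Function.update_of_ne hj]; rfl⟩, by rw [e, Function.update_self]⟩
    el := isElementaryAbelian_iff.2 ⟨fun v hv w hw => M.Vcomm hv.1 hw.1, fun v hv => M.Vsq v hv.1⟩
    WB := fun v hv => hQ (M.VQ hv.1)
    B2 := hT.2.1.to_le (ChoiceBase.bau_le T)
    BX := fun b hb => by
      obtain ⟨c, hc⟩ := hup b hb
      exact ⟨hT.1 (ChoiceBase.bau_le T hb), _, hc, fun j _ => ⟨c j, rfl⟩⟩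
    nW := fun l hl v hv => by
      obtain ⟨hlH, A, hA, -⟩ := hl
      refine ⟨M.Vn l hlH v hv.1, fun j hj => ?_⟩
      rw [hA v hv.1 j, hv.2 j hj]
      exact ext2 (by rw [ap_zero']; simp) (by rw [ap_one']; simp)
    acts := fun l hl => by
      obtain ⟨hlH, A, hA, -⟩ := hl
      exact ⟨A i, fun v hv => hA v hv.1 i⟩
    cov := fun A => by
      obtain ⟨l, hl, hA⟩ := M.nat.lift (Function.update 1 i A)
      refine ⟨l, ⟨hl, _, hA.1, fun j hj => ⟨0, by rw [Function.update_of_ne hj, up_zero]; rfl⟩⟩, fun v hv => ?_⟩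
      have := hA.1 v hv.1 i
      rwa [Function.update_self] at this
    up := fun b hb => by
      obtain ⟨c, hc⟩ := hup b hb
      exact ⟨c i, fun v hv => hc v hv.1 i⟩
    upc := fun c => by
      obtain ⟨b, hb, hc⟩ := hupc fun _ => c
      exact ⟨b, hb, fun v hv => hc v hv.1 i⟩
    syl := fun R hR hRX h2 => by
      have hRH : R ≤ H := fun r hr => (hRX hr).1
      obtain ⟨h3, h4⟩ := bau_eq_of_le hT hRH h2 hR
      refine le_antisymm (fun r hr => ?_) hR
      obtain ⟨hrH, A, hA, hA'⟩ := hRX hr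
      -- `r` normalises `zj T`
      have hrn : ∀ z ∈ zj T, r * z * r⁻¹ ∈ zj T := by
        intro z hz
        rw [← h4] at hz ⊢
        have h5 := normalizer_le_of_cj (F := zj) zj_cj R (Subgroup.le_normalizer hr)
        exact (mem_normalizer_iff.1 h5 z).1 hz
      -- so `A i` is upper triangular
      have h10 : ent (A i) 1 0 = 0 := by
        obtain ⟨z, hz, e⟩ := M.nat.surj (Function.update 0 i ![1, 0])
        have hzJ : z ∈ zj T := by
          refine (hM z).2 ⟨hz, fun j => ?_⟩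
          rw [e]
          by_cases hj : j = i
          · subst hj; rw [Function.update_self]; rfl
          · rw [Function.update_of_ne hj]; rfl
        have h5 := ((hM _).1 (hrn z hzJ)).2 i
        rw [hA z hz i, e, Function.update_self, ap_one'] at h5
        simpa using h5
      -- a power of two of `A i` is the identity
      have h00 : ent (A i) 0 0 = 1 := by
        obtain ⟨n, hn⟩ := h2 ⟨r, hr⟩
        have hn' : r ^ 2 ^ n = 1 := by simpa using congrArg Subtype.val hn
        have hpow : ∀ m : ℕ, M.Acts (r ^ m) (A ^ m) := by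
          intro m
          induction m with
          | zero => rw [pow_zero, pow_zero]; exact NatKB.acts_one
          | succ m ih => rw [pow_succ, pow_succ]; exact NatKB.acts_mul hrH ih hA
        have h5 := hpow (2 ^ n)
        rw [hn'] at h5
        have h6 : (A i) ^ 2 ^ n = 1 := by
          have := congrFun (NatKB.acts_unique h5 NatKB.acts_one) i
          rwa [Pi.pow_apply, Pi.one_apply] at this
        have h7 : ∀ m : ℕ, ent ((A i) ^ m) 1 0 = 0 ∧ ent ((A i) ^ m) 0 0 = ent (A i) 0 0 ^ m := by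
          intro m
          induction m with
          | zero => rw [pow_zero, pow_zero]; exact ⟨rfl, rfl⟩
          | succ m ih =>
            rw [pow_succ, ent_mul, ent_mul, h10, ih.1, ih.2, pow_succ]
            simp
        have h8 := (h7 (2 ^ n)).2
        rw [h6, ent_one_00] at h8
        have h9 : (ent (A i) 0 0 - 1) ^ 2 ^ n = 0 := by
          have := sub_pow_char_pow (p := 2) (n := n) (ent (A i) 0 0) (1 : F)
          rw [this, ← h8, one_pow, sub_self]
        have h11 := pow_eq_zero_iff (pow_ne_zero n two_ne_zero) |>.1 h9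
        exact sub_eq_zero.1 h11
      have hAi : A i = Lib.SL2Mat.up (ent (A i) 0 1) := by
        have h11 := det_eq (A i)
        rw [h10, h00, mul_zero, sub_zero, one_mul] at h11
        exact ext_ent (by rw [up_00, h00]) (by rw [up_01]) (by rw [up_10, h10]) (by rw [up_11, h11])
      rw [← h3]
      refine mem_bau.2 ⟨hr, fun z hz => ?_⟩
      rw [h4] at hz
      obtain ⟨hz1, hz2⟩ := (hM z).1 hz
      have h12 : r * z * r⁻¹ = z := by
        refine nat_inj M hD (M.Vn r hrH z hz1) hz1 ?_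
        funext j
        rw [hA z hz1 j]
        obtain ⟨c, hc⟩ : ∃ c, A j = Lib.SL2Mat.up c := by
          by_cases hj : j = i
          · subst hj; exact ⟨_, hAi⟩
          · exact hA' j hj
        rw [hc]
        apply ext2
        · rw [ap_zero', hz2 j]; simp
        · rw [ap_one', hz2 j]; simp
      exact (mul_inv_eq_iff_eq_mul.1 h12).symm
    act := fun l hl z hz => by
      rw [ChoiceBase.zc_bau] at hz
      obtain ⟨hz1, hz2⟩ := (hM z).1 hz
      obtain ⟨hlH, A, hA, hA'⟩ := hl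
      refine ⟨mul_mem (M.Vn l hlH z hz1) (inv_mem hz1), fun j hj => ?_⟩
      obtain ⟨c, hc⟩ := hA' j hj
      rw [M.map_div (M.Vn l hlH z hz1) hz1, Pi.sub_apply, hA z hz1 j, hc, sub_eq_zero]
      apply ext2
      · rw [ap_zero', hz2 j]; simp
      · rw [ap_one', hz2 j]; simp }

/-- The frame, from the data of `NatOut`. -/
theorem natFr' [Finite G] [Finite F] [CharP F 2] (hT : Syl T H) (hD : D = ⊥) (M : NatKB F T H (zl T H) D k)
    (hM : ∀ (v : G), v ∈ zj T ↔ v ∈ zl T H ∧ ∀ i, M.nat.e v i 1 = 0)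
    (hup : ∀ b ∈ bau T, ∃ c : Fin k → F, M.Acts b fun i => up (c i))
    (hupc : ∀ c : Fin k → F, ∃ b ∈ bau T, M.Acts b fun i => up (c i))
    (hAA : ∀ i, ∃ A ∈ AA T, (∀ a ∈ A, ∃ c : F, M.Acts a (Function.update 1 i (up c))) ∧
      ∀ c : F, ∃ a ∈ A, M.Acts a (Function.update 1 i (up c)))
    (hQ : o2 H ≤ bau T) (mem_o2 : ∀ x, x ∈ o2 H ↔ x ∈ T ∧ ∀ v ∈ zl T H, x * v = v * x)
    (zc_eq : zc (o2 H) = zl T H) (hmx : Mx G (mm T)) :
    ∃ L Z A : Fin k → Subgroup G, (∀ i, L i ≤ Xn M i) ∧ (∀ i, A i ∈ AA T) ∧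
      (∀ i A, ∃ l ∈ L i, ∃ A', M.Acts l A' ∧ A' i = A) ∧
      (∀ i v, v ∈ Z i ↔ v ∈ Wn M i ∧ M.nat.e v i 1 = 0) ∧
      Fr (bau T) (o2 H) (zl T H) (zj T) L (Wn M) Z (Cn M) A (Nat.card F) (mm T) := by
  classical
  choose A hA hA1 hA2 using hAA
  set X : ∀ i, NX F (bau T) (Xn M i) (Wn M i) := fun i => natNX hT hD M hM hup hupc hQ i with hX
  choose L hL1 hL2 hL3 hL4 hL5 using fun i => (X i).exists_block
  have hLH : ∀ i, L i ≤ H := fun i l hl => (hL2 i hl).1
  have hzero : ∀ (A : Matrix.SpecialLinearGroup (Fin 2) F), ap A 0 = 0 := fun A =>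
    ext2 (by rw [ap_zero']; simp) (by rw [ap_one']; simp)
  refine ⟨L, fun i => (X i).Zs, A, hL2, hA, ?_, fun i v => Iff.rfl, ?_⟩
  · intro i B
    obtain ⟨l, hl, h⟩ := hL4 i B
    obtain ⟨hlH, A', hA', -⟩ := hL2 i hl
    refine ⟨l, hl, A', hA', ?_⟩
    apply ap_inj
    intro x
    obtain ⟨v, hv, e⟩ := (X i).surj x
    have h1 := h v hv
    have h2 := hA' v hv.1 i
    have e' : M.nat.e v i = x := e
    rw [e'] at h2
    rw [← h2, ← e]
    exact h1
  · exact
      { max := hmx
        blk := hL3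
        cardZ := fun i => (X i).card_Zs
        QB := hQ
        VQ := M.VQ
        el := isElementaryAbelian_iff.2 ⟨fun v hv w hw => M.Vcomm hv hw, M.Vsq⟩
        mem_Q := fun x hx => by
          rw [mem_o2]
          exact ⟨fun h => h.2, fun h => ⟨ChoiceBase.bau_le T hx, h⟩⟩
        zcQ := fun x hx h2 hxc => by
          rw [← zc_eq]
          exact ChoiceBase.mem_zc.2 ⟨hx, h2, fun y hy => (hxc y hy).symm⟩
        mem_ZJ := by
          intro v
          constructor
          · intro hv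
            exact ⟨((hM v).1 hv).1, fun b hb => ((mem_bau.1 hb).2 v hv).symm⟩
          · rintro ⟨hv, hvc⟩
            rw [← ChoiceBase.zc_bau]
            exact ChoiceBase.mem_zc.2 ⟨hQ (M.VQ hv), M.Vsq v hv, hvc⟩
        LV := fun i l hl v hv => M.Vn l (hLH i hl) v hv
        LQ := fun i l hl x hx => (mem_normalizer_iff.1 (ChoiceSit.le_normalizer_o2 H (hLH i hl)) x).1 hx
        WV := fun i v hv => hv.1
        CV := fun i v hv => hv.1
        WC := by
          intro i v hv
          obtain ⟨w, hw, e⟩ := M.nat.surj (Function.update 0 i (M.nat.e v i))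
          refine ⟨w, ⟨hw, fun j hj => by rw [e, Function.update_of_ne hj]; rfl⟩, w⁻¹ * v,
            ⟨mul_mem (inv_mem hw) hv, ?_⟩, by group⟩
          rw [M.nat.mul _ (inv_mem hw) v hv, M.map_inv hw, Pi.add_apply, Pi.neg_apply, e, Function.update_self,
            neg_add_cancel]
        dir := by
          intro i
          rw [eq_bot_iff]
          rintro v ⟨hv1, hv2⟩
          rw [mem_bot]
          refine nat_inj M hD hv1.1 (one_mem _) ?_
          rw [M.map_one]
          funext j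
          by_cases hj : j = i
          · rw [hj]; exact hv2.2
          · exact hv1.2 j hj
        C0 := by
          intro v hv h
          refine nat_inj M hD hv (one_mem _) ?_
          rw [M.map_one]
          funext j
          exact (h j).2
        WjC := fun i j hij v hv => ⟨hv.1, hv.2 i hij⟩
        BC := by
          intro i b hb c hc
          obtain ⟨x, hx⟩ := hup b hb
          refine ⟨M.Vn b (hT.1 (ChoiceBase.bau_le T hb)) c hc.1, ?_⟩
          rw [hx c hc.1 i, hc.2, hzero]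
        LC := by
          intro i l hl z hz hzC
          obtain ⟨hlH, A', hA', hA''⟩ := hL2 i hl
          obtain ⟨hz1, hz2⟩ := (hM z).1 hz
          refine mul_inv_eq_iff_eq_mul.1 (nat_inj M hD (M.Vn l hlH z hz1) hz1 ?_)
          funext j
          rw [hA' z hz1 j]
          by_cases hj : j = i
          · rw [hj, hzC.2, hzero]
          · obtain ⟨c, hc⟩ := hA'' j hj
            rw [hc]
            apply ext2
            · rw [ap_zero', hz2 j]; simp
            · rw [ap_one', hz2 j]; simp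
        AB := fun i => (le_jj (hA i)).trans (ChoiceBase.jj_le_bau T)
        Ael := fun i => (hA i).1
        Am := fun i => (mm_eq (hA i)).symm
        Ane := by
          intro i h
          obtain ⟨a, ha, hac⟩ := hA2 i 1
          obtain ⟨v, hv, e⟩ := M.nat.surj (Function.update 0 i ![0, 1])
          have h1 := h a ha v ⟨hv, fun j hj => by rw [e, Function.update_of_ne hj]; rfl⟩
          have h2 := hac v hv i
          rw [h1, mul_inv_cancel_right, Function.update_self, e, Function.update_self] at h2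
          have h3 := congrFun h2 0
          rw [ap_zero'] at h3
          simp at h3
        AC := by
          intro i a ha c hc
          obtain ⟨x, hx⟩ := hA1 i a ha
          have haH : a ∈ H := hT.1 ((hA i).2.1 ha)
          refine mul_inv_eq_iff_eq_mul.1 (nat_inj M hD (M.Vn a haH c hc.1) hc.1 ?_)
          funext j
          rw [hx c hc.1 j]
          by_cases hj : j = i
          · rw [hj, hc.2, hzero]
          · rw [Function.update_of_ne hj, Pi.one_apply, ap_one] }

/-- **The frame of a minimal parabolic with natural modules.** -/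
theorem natFr [Finite G] [Finite F] [CharP F 2] (hT : Syl T H) (hP : IsMinPar T H)
    (hc : H ⊓ centralizer (o2 H : Set G) ≤ o2 H) (hJ : ¬ jj T ≤ o2 H) (hk : 0 < k)
    (N : NatK F T H (zl T H) (cv T H) k) (hcv : cv T H = ⊥) (hmx : Mx G (mm T)) :
    ∃ L Z A : Fin k → Subgroup G, (∀ i, L i ≤ Xn (natKB_of hT hc hJ hk N) i) ∧ (∀ i, A i ∈ AA T) ∧
      (∀ i A, ∃ l ∈ L i, ∃ A', (natKB_of hT hc hJ hk N).Acts l A' ∧ A' i = A) ∧
      (∀ i v, v ∈ Z i ↔ v ∈ Wn (natKB_of hT hc hJ hk N) i ∧ N.e v i 1 = 0) ∧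
      Fr (bau T) (o2 H) (zl T H) (zj T) L (Wn (natKB_of hT hc hJ hk N)) Z (Cn (natKB_of hT hc hJ hk N)) A
        (Nat.card F) (mm T) := by
  have hout := natOut hT hP hc hJ hk N hcv
  refine natFr' hT hcv (natKB_of hT hc hJ hk N) hout.mem_zj (fun b hb => ?_) (fun c => ?_) (fun i => ?_)
    hout.o2_le hout.mem_o2 hout.zc_eq hmx
  · obtain ⟨c, hc⟩ := hout.bau_up b hb
    exact ⟨c, hc.1⟩
  · obtain ⟨j, hj, hc⟩ := hout.jj_up c
    exact ⟨j, ChoiceBase.jj_le_bau T hj, hc.1⟩
  · obtain ⟨A, hA, h1, h2⟩ := hout.AA_up i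
    refine ⟨A, hA, fun a ha => ?_, fun c => ?_⟩
    · obtain ⟨c, hc⟩ := h1 a ha
      exact ⟨c, hc.1⟩
    · obtain ⟨a, ha, hc⟩ := h2 c
      exact ⟨a, ha, hc.1⟩

end

end Cfsg.Agent.Omega.OM.Uni

end
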