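import Cfsg.Agent.Mrg.Omega.OM.ROneSym
import Cfsg.Agent.Mrg.Omega.LemmaK.Main
import Cfsg.Agent.Mrg.Omega.SQ1.BauSMin
import Cfsg.Agent.Mrg.Omega.OM.BlkGen
import Cfsg.Agent.Mrg.Omega.OM.UniPlus
import Cfsg.Agent.Mrg.Omega.OM.FrNat
import Cfsg.Agent.Mrg.Omega.NO3S.Basic

section


/-!
# The frame `Fr` for the symmetric blocks (`q = 2`: `S₃ ≀`, `S_{2^m+1} ≀`)

* `fb` : a minimal block `k : SQ1.BauS.Blk H T V d r i L` is an FF-block `FB (bau T) L (N i) ⟨d i⟩ 2`; `block`,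
  `mainBlk` : it is a block in the sense of LEMMA K (both forms).  Only `h : SQ1.BauS.In H T Q V N d t r` is used.
* `exists_A` : there is `A ∈ A(T)` which acts on `V` only on `N i`.
* `dir`, `C0` : `N i ∩ C i = 1`, `⋂ C i = 1` for `C i = ⨆ j ≠ i, N j`.
* `frame` : `Fr (bau T) Q V (zj T) L N ⟨d i⟩ (C i) A 2 (mm T)` if `zj T ≤ V`, `Ω₁Z(Q) ≤ V`, `V ≤ ⨆ N i`, `|E| ≤ mm T` for
  every elementary abelian 2-subgroup `E`.
* `symFr` : the same from `SymOut` (ROneSym.lean).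
-/

set_option autoImplicit false

namespace Cfsg.Agent.Omega.OM.FrSym

open Subgroup Cfsg Cfsg.Agent.PLocal.ThompsonJ Cfsg.Agent.ZN Cfsg.Agent.ZN.ChoiceBase
open Cfsg.Agent.PLocal.ElemAbSup
open Cfsg.Agent.Omega.SQ1.Bau (mem_AA_of_comm zj_le_AA elem_comm elem_sq mem_sup_comm card_sup_comm)
open Cfsg.Agent.Omega.SQ1.BauS
open Cfsg.Agent.Omega.OM.BlockUniq
open Cfsg.Agent.Omega.OM.Uni
open scoped Pointwise commutatorElement

universe u w

variable {G : Type u} [Group G] {H T Q V : Subgroup G} {ι : Type w} {N : ι → Subgroup G} {d t r : ι → G}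

/-- the complement of `N i` -/
def CC (N : ι → Subgroup G) (i : ι) : Subgroup G := ⨆ j, ⨆ (_ : j ≠ i), N j

theorem N_le_CC {i j : ι} (hij : j ≠ i) : N j ≤ CC N i := le_iSup₂_of_le j hij le_rfl

theorem CC_le {i : ι} {X : Subgroup G} (hX : ∀ j, j ≠ i → N j ≤ X) : CC N i ≤ X := iSup₂_le hX

theorem mem_zp (h : In H T Q V N d t r) {i : ι} {x : G} (hx : x ∈ zpowers (d i)) : x = 1 ∨ x = d i :=
  Blk.mem_zp h hx

theorem d_sq (h : In H T Q V N d t r) (i : ι) : d i * d i = 1 := h.mulself (h.dV i)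

theorem card_zp (h : In H T Q V N d t r) (i : ι) : Nat.card (zpowers (d i)) = 2 := by
  rw [Nat.card_zpowers]
  exact orderOf_eq_prime (by rw [pow_two]; exact d_sq h i) (h.d1 i)

/-! ### Fixed points -/

/-- If `g` fixes `N j` elementwise it fixes `x ∈ ⨆ N j`. -/
theorem fix_of {X : Subgroup G} {g : G} (hX : ∀ x ∈ X, g * x * g⁻¹ = x) : X ≤ centralizer ({g} : Set G) := by
  intro x hx
  rw [mem_centralizer_iff]
  intro y hy
  rw [show y = g from hy]
  calc g * x = (g * x * g⁻¹) * g := by group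
    _ = x * g := by rw [hX x hx]

theorem fix_iff {g x : G} : g * x * g⁻¹ = x ↔ g * x = x * g := by
  constructor
  · intro h
    calc g * x = (g * x * g⁻¹) * g := by group
      _ = x * g := by rw [h]
  · intro h
    rw [h]; group

theorem mem_cent {g x : G} : x ∈ centralizer ({g} : Set G) ↔ g * x = x * g := by
  rw [mem_centralizer_iff]
  exact ⟨fun h => h g rfl, fun h y hy => by rw [show y = g from hy]; exact h⟩

/-- `t i` centralises `C i`. -/
theorem t_CC (h : In H T Q V N d t r) {i : ι} {c : G} (hc : c ∈ CC N i) : t i * c = c * t i := by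
  have h1 : CC N i ≤ centralizer ({t i} : Set G) := CC_le fun j hj =>
    fix_of fun x hx => h.t_N' hj hx
  exact mem_cent.1 (h1 hc)

theorem CC_le_V (h : In H T Q V N d t r) (i : ι) : CC N i ≤ V := CC_le fun j _ => h.NV j

theorem split_CC (h : In H T Q V N d t r) (hN : V ≤ ⨆ i, N i) (i : ι) {v : G} (hv : v ∈ V) :
    ∃ n ∈ N i, ∃ c ∈ CC N i, v = n * c := by
  have h1 : V ≤ N i ⊔ CC N i := by
    refine hN.trans (iSup_le fun j => ?_)
    by_cases hj : j = i
    · subst hj; exact le_sup_left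
    · exact (N_le_CC hj).trans le_sup_right
  exact mem_sup_comm (fun a ha b hb => h.Vcomm a (h.NV i ha) b (CC_le_V h i hb)) (h1 hv)

/-- An element of `⨆ N j` fixed by all `t j` is a product of elements `d j`. -/
theorem mem_D (h : In H T Q V N d t r) [Finite G] (s : Set ι) {v : G} (hv : v ∈ ⨆ j ∈ s, N j)
    (hfix : ∀ j, t j * v * (t j)⁻¹ = v) : v ∈ Subgroup.closure (d '' s) := by
  classical
  have := h.finite_index
  have := Fintype.ofFinite ι
  -- remove the moved coordinates one by one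
  have key : ∀ F : Finset ι, ∀ v, v ∈ ⨆ j ∈ F, N j → (∀ j, t j * v * (t j)⁻¹ = v) →
      v ∈ Subgroup.closure (d '' (F : Set ι)) := by
    intro F
    induction F using Finset.induction_on with
    | empty =>
      intro v hv _
      have : v = 1 := by simpa using hv
      rw [this]; exact one_mem _
    | insert i F hi ih =>
      intro v hv hf
      rw [Finset.iSup_insert] at hv
      have hFV : (⨆ j ∈ F, N j) ≤ V := iSup₂_le fun j _ => h.NV j
      obtain ⟨n, hn, c, hc, rfl⟩ := mem_sup_comm (fun a ha b hb => h.Vcomm a (h.NV i ha) b (hFV hb)) hv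
      have hcC : c ∈ CC N i := by
        have : (⨆ j ∈ F, N j) ≤ CC N i := iSup₂_le fun j hj => N_le_CC fun e => hi (e ▸ hj)
        exact this hc
      have h1 : t i * n * (t i)⁻¹ = n := by
        have h2 := hf i
        have e : t i * (n * c) * (t i)⁻¹ = (t i * n * (t i)⁻¹) * (t i * c * (t i)⁻¹) := by group
        rw [e, fix_iff.2 (t_CC h hcC)] at h2
        exact mul_right_cancel h2
      have hnd := h.t_ne i hn h1
      have hnfix : ∀ j, t j * n * (t j)⁻¹ = n := by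
        intro j
        rcases hnd with h2 | h2
        · rw [h2]; group
        · rw [h2]; exact h.t_d' i j
      have hcfix : ∀ j, t j * c * (t j)⁻¹ = c := by
        intro j
        have h2 := hf j
        have e : t j * (n * c) * (t j)⁻¹ = (t j * n * (t j)⁻¹) * (t j * c * (t j)⁻¹) := by group
        rw [e, hnfix j] at h2
        exact mul_left_cancel h2
      have h3 := ih c hc hcfix
      refine mul_mem ?_ ?_
      · rcases hnd with h2 | h2
        · rw [h2]; exact one_mem _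
        · rw [h2]; exact subset_closure ⟨i, by simp, rfl⟩
      · refine closure_mono (Set.image_mono ?_) h3
        intro x hx; simp only [Finset.coe_insert]; exact Or.inr hx
  have h1 := key (Set.toFinset s) v (by simpa using hv) hfix
  simpa using h1

theorem CC_eq (i : ι) : CC N i = ⨆ j ∈ ({i}ᶜ : Set ι), N j := rfl

/-- `r i` fixes the elements of `C i ∩ Z_J`. -/
theorem r_CC (h : In H T Q V N d t r) [Finite G] {i : ι} {c : G} (hc : c ∈ CC N i)
    (hfix : ∀ j, t j * c * (t j)⁻¹ = c) : r i * c = c * r i := by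
  rw [CC_eq] at hc
  have h1 := mem_D h _ hc hfix
  have h2 : Subgroup.closure (d '' ({i}ᶜ : Set ι)) ≤ centralizer ({r i} : Set G) := by
    rw [closure_le]
    rintro _ ⟨j, hj, rfl⟩
    exact mem_cent.2 (fix_iff.1 (h.r_d' (fun e => hj (e ▸ rfl))))
  exact mem_cent.1 (h2 h1)

theorem dir (h : In H T Q V N d t r) [Finite G] (i : ι) : N i ⊓ CC N i = ⊥ := by
  rw [eq_bot_iff]
  rintro x ⟨hx, hc⟩
  rw [mem_bot]
  rcases h.t_ne i hx (fix_iff.2 (t_CC h hc)) with h1 | h1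
  · exact h1
  · exfalso
    have h2 : ∀ j, t j * x * (t j)⁻¹ = x := fun j => by rw [h1]; exact h.t_d' i j
    have h3 := r_CC h hc h2
    rw [h1] at h3
    exact h.r_d_ne i (fix_iff.2 h3)

theorem C0 (h : In H T Q V N d t r) [Finite G] (hN : V ≤ ⨆ i, N i) {x : G} (hx : x ∈ V)
    (hc : ∀ i, x ∈ CC N i) : x = 1 := by
  classical
  have hfix : ∀ j, t j * x * (t j)⁻¹ = x := fun j => fix_iff.2 (t_CC h (hc j))
  have hr : ∀ i, r i * x = x * r i := fun i => r_CC h (hc i) hfix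
  have := h.finite_index
  have := Fintype.ofFinite ι
  -- `x` is a product of `d j`, fixed by all `r i`
  have key : ∀ F : Finset ι, ∀ v, v ∈ ⨆ j ∈ F, N j → (∀ j, t j * v * (t j)⁻¹ = v) →
      (∀ i, r i * v = v * r i) → v = 1 := by
    intro F
    induction F using Finset.induction_on with
    | empty =>
      intro v hv _ _
      simpa using hv
    | insert i F hi ih =>
      intro v hv hf hrv
      rw [Finset.iSup_insert] at hv
      have hFV : (⨆ j ∈ F, N j) ≤ V := iSup₂_le fun j _ => h.NV j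
      obtain ⟨n, hn, c, hc, rfl⟩ := mem_sup_comm (fun a ha b hb => h.Vcomm a (h.NV i ha) b (hFV hb)) hv
      have hcC : c ∈ CC N i := by
        have : (⨆ j ∈ F, N j) ≤ CC N i := iSup₂_le fun j hj => N_le_CC fun e => hi (e ▸ hj)
        exact this hc
      have h1 : t i * n * (t i)⁻¹ = n := by
        have h2 := hf i
        have e : t i * (n * c) * (t i)⁻¹ = (t i * n * (t i)⁻¹) * (t i * c * (t i)⁻¹) := by group
        rw [e, fix_iff.2 (t_CC h hcC)] at h2
        exact mul_right_cancel h2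
      have hnd := h.t_ne i hn h1
      have hnfix : ∀ j, t j * n * (t j)⁻¹ = n := by
        intro j
        rcases hnd with h2 | h2
        · rw [h2]; group
        · rw [h2]; exact h.t_d' i j
      have hcfix : ∀ j, t j * c * (t j)⁻¹ = c := by
        intro j
        have h2 := hf j
        have e : t j * (n * c) * (t j)⁻¹ = (t j * n * (t j)⁻¹) * (t j * c * (t j)⁻¹) := by group
        rw [e, hnfix j] at h2
        exact mul_left_cancel h2
      have hrc := r_CC h hcC hcfix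
      have hn1 : n = 1 := by
        rcases hnd with h2 | h2
        · exact h2
        · exfalso
          have h3 := hrv i
          have h4 : r i * n = n * r i := by
            have h5 : r i * n * c = n * r i * c := by
              rw [mul_assoc, h3, mul_assoc, ← hrc]; group
            exact mul_right_cancel h5
          rw [h2] at h4
          exact h.r_d_ne i (fix_iff.2 h4)
      subst hn1
      rw [one_mul] at hf hrv ⊢
      exact ih c hc hf hrv
  exact key Finset.univ x (by simpa using hN hx) hfix hr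

/-! ### The group `A i` -/

/-- `A` centralises `N j` or acts on it as `⟨t j⟩`. -/
theorem A_N (h : In H T Q V N d t r) [Finite G] {A : Subgroup G} (hA : A ∈ AA T) {a : G} (ha : a ∈ A) (j : ι) :
    (∀ v ∈ N j, a * v = v * a) ∨ ∀ v ∈ N j, a * v * a⁻¹ = t j * v * (t j)⁻¹ := by
  rcases (h.EE_good (h.Jt (le_jj hA ha))).actN j with h1 | h1
  · exact Or.inl fun v hv => fix_iff.1 (h1 v hv)
  · exact Or.inr h1

/-- a subgroup of index two -/
theorem card_two_mul [Finite G] {A A₁ : Subgroup G} (hA₁ : A₁ ≤ A) (hne : ∃ a ∈ A, a ∉ A₁)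
    (h2 : ∀ a ∈ A, ∀ b ∈ A, a ∉ A₁ → b ∉ A₁ → a * b ∈ A₁) : Nat.card A = 2 * Nat.card A₁ := by
  have h1 : A₁.relIndex A = 2 := by
    rw [Subgroup.relIndex, Subgroup.index_eq_two_iff]
    obtain ⟨a, ha, ha1⟩ := hne
    refine ⟨⟨a, ha⟩, ?_⟩
    rintro ⟨b, hb⟩
    simp only [mem_subgroupOf, Subgroup.coe_mul]
    by_cases hb1 : b ∈ A₁
    · refine Or.inr ⟨hb1, fun h3 => ha1 ?_⟩
      have := mul_mem (inv_mem hb1) h3
      rwa [inv_mul_cancel_left] at this
    · exact Or.inl ⟨h2 b hb a ha hb1 ha1, hb1⟩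
  have h3 := (A₁.subgroupOf A).card_mul_index
  rw [Nat.card_congr (Subgroup.subgroupOfEquivOfLe hA₁).toEquiv] at h3
  rw [Subgroup.relIndex] at h1
  rw [h1] at h3
  omega

/-- `A` moves `N j`: the kernel has index two. -/
theorem card_A₁ (h : In H T Q V N d t r) [Finite G] {A : Subgroup G} (hA : A ∈ AA T) {j : ι}
    (hj : ¬ ∀ a ∈ A, ∀ v ∈ N j, a * v = v * a) :
    Nat.card A = 2 * Nat.card ↥(A ⊓ centralizer (N j : Set G)) := by
  have hmem : ∀ a ∈ A, (a ∈ A ⊓ centralizer (N j : Set G) ↔ ∀ v ∈ N j, a * v = v * a) := fun a ha => by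
    rw [mem_inf, mem_centralizer_iff]
    exact ⟨fun h1 v hv => (h1.2 v hv).symm, fun h1 => ⟨ha, fun v hv => (h1 v hv).symm⟩⟩
  refine card_two_mul inf_le_left ?_ ?_
  · push Not at hj
    obtain ⟨a, ha, v, hv, hne⟩ := hj
    exact ⟨a, ha, fun h1 => hne ((hmem a ha).1 h1 v hv)⟩
  · intro a ha b hb ha1 hb1
    rw [hmem _ (mul_mem ha hb)]
    have h1 : ∀ v ∈ N j, a * v * a⁻¹ = t j * v * (t j)⁻¹ :=
      (A_N h hA ha j).resolve_left fun h2 => ha1 ((hmem a ha).2 h2)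
    have h2 : ∀ v ∈ N j, b * v * b⁻¹ = t j * v * (t j)⁻¹ :=
      (A_N h hA hb j).resolve_left fun h2 => hb1 ((hmem b hb).2 h2)
    intro v hv
    rw [← fix_iff]
    have e : a * b * v * (a * b)⁻¹ = a * (b * v * b⁻¹) * a⁻¹ := by group
    rw [e, h2 v hv, h1 _ (h.t_N j hv)]
    have e2 : t j * (t j * v * (t j)⁻¹) * (t j)⁻¹ = t j * t j * v * (t j * t j)⁻¹ := by group
    rw [e2, h.tsq j v (h.NV j hv)]; group

/-- **There is `A ∈ A(T)` acting only on `N i`.** -/
theorem exists_A (h : In H T Q V N d t r) [Finite G] (i : ι) :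
    ∃ A ∈ AA T, (¬ ∀ a ∈ A, ∀ v ∈ N i, a * v = v * a) ∧ ∀ a ∈ A, ∀ c ∈ CC N i, a * c = c * a := by
  classical
  -- some member of `A(T)` moves `N i`
  have hne : ∃ A ∈ AA T, ¬ ∀ a ∈ A, ∀ v ∈ N i, a * v = v * a := by
    by_contra hcon
    push Not at hcon
    have h1 : jj T ≤ centralizer (N i : Set G) := by
      rw [jj_eq]
      refine sSup_le fun A hA a ha => mem_centralizer_iff.2 fun v hv => (hcon A hA a ha v hv).symm
    exact h.t_not_QQ i ⟨h.t_bau i, h1 (h.tJ i)⟩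
  obtain ⟨A, hA, hmax⟩ := (Set.toFinite {A : Subgroup G | A ∈ AA T ∧ ¬ ∀ a ∈ A, ∀ v ∈ N i, a * v = v * a}).exists_maximalFor
    (fun A => Nat.card ↥(A ⊓ Q)) _ hne
  obtain ⟨hAT, hAi⟩ := hA
  refine ⟨A, hAT, hAi, ?_⟩
  suffices hj : ∀ j, j ≠ i → ∀ a ∈ A, ∀ v ∈ N j, a * v = v * a by
    intro a ha c hc
    have h1 : CC N i ≤ centralizer ({a} : Set G) := CC_le fun j hji v hv => mem_cent.2 (hj j hji a ha v hv)
    exact mem_cent.1 (h1 hc)
  intro j hji
  by_contra hAj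
  set A₁ := A ⊓ centralizer (N j : Set G) with hA₁
  have hcA := card_A₁ h hAT hAj
  rw [← hA₁] at hcA
  have hA₁c : ∀ a ∈ A₁, ∀ v ∈ N j, a * v = v * a := fun a ha v hv => (mem_centralizer_iff.1 ha.2 v hv).symm
  have hNel : ∀ j, IsElementaryAbelian 2 (N j) := fun j => isElementaryAbelian_mono h.Velem (h.NV j)
  have hNT : ∀ j, N j ≤ T := fun j => (h.NV j).trans (h.VQ.trans h.QT)
  have hA₁el : IsElementaryAbelian 2 A₁ := isElementaryAbelian_mono hAT.1 inf_le_left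
  by_cases hc : ∀ a ∈ A₁, ∀ v ∈ N i, a * v = v * a
  · -- `A₁ N i N j` is too big
    obtain ⟨a, ha, hai⟩ : ∃ a ∈ A, ¬ ∀ v ∈ N i, a * v = v * a := by
      by_contra hcon
      push Not at hcon
      exact hAi hcon
    have ha1 : a ∉ A₁ := fun h1 => hai (hc a h1)
    have haj : ¬ ∀ v ∈ N j, a * v = v * a := fun h1 => ha1 ⟨ha, mem_centralizer_iff.2 fun v hv => (h1 v hv).symm⟩
    have hai' := (A_N h hAT ha i).resolve_left hai
    have haj' := (A_N h hAT ha j).resolve_left haj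
    have hNN : ∀ x ∈ N i, ∀ y ∈ N j, x * y = y * x := fun x hx y hy => h.Vcomm x (h.NV i hx) y (h.NV j hy)
    have hNij : N i ⊓ N j = ⊥ := by
      rw [eq_bot_iff, ← dir h i]
      exact inf_le_inf_left _ (N_le_CC hji)
    have h16 := card_sup_comm hNN
    rw [hNij, h.cardN, h.cardN, Subgroup.card_bot, mul_one] at h16
    set M := N i ⊔ N j with hM
    have hMV : M ≤ V := sup_le (h.NV i) (h.NV j)
    have hMel : IsElementaryAbelian 2 M := isElementaryAbelian_mono h.Velem hMV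
    have hA₁M : ∀ x ∈ A₁, ∀ y ∈ M, x * y = y * x := by
      intro x hx y hy
      obtain ⟨n, hn, m, hm, rfl⟩ := mem_sup_comm hNN hy
      have c1 : Commute x n := hc x hx n hn
      have c2 : Commute x m := hA₁c x hx m hm
      exact (c1.mul_right c2).eq
    have hinf : A₁ ⊓ M ≤ zpowers (d i) ⊔ zpowers (d j) := by
      rintro x ⟨hx, hxM⟩
      obtain ⟨n, hn, m, hm, rfl⟩ := mem_sup_comm hNN hxM
      have h1 : a * (n * m) = n * m * a := elem_comm hAT.1 a ha _ hx.1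
      have h2 : (a * n * a⁻¹) * (a * m * a⁻¹) = n * m := by
        calc (a * n * a⁻¹) * (a * m * a⁻¹) = a * (n * m) * a⁻¹ := by group
          _ = n * m := by rw [h1]; group
      rw [hai' n hn, haj' m hm] at h2
      have h3 : n⁻¹ * (t i * n * (t i)⁻¹) = m * (t j * m * (t j)⁻¹)⁻¹ := by
        calc n⁻¹ * (t i * n * (t i)⁻¹) = n⁻¹ * ((t i * n * (t i)⁻¹) * (t j * m * (t j)⁻¹)) * (t j * m * (t j)⁻¹)⁻¹ := by
              group
          _ = n⁻¹ * (n * m) * (t j * m * (t j)⁻¹)⁻¹ := by rw [h2]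
          _ = _ := by group
      have h4 : n⁻¹ * (t i * n * (t i)⁻¹) ∈ N i ⊓ N j := by
        refine mem_inf.2 ⟨mul_mem (inv_mem hn) (h.t_N i hn), ?_⟩
        rw [h3]
        exact mul_mem hm (inv_mem (h.t_N j hm))
      rw [hNij, mem_bot] at h4
      rw [h4] at h3
      have h5 : t i * n * (t i)⁻¹ = n := (inv_mul_eq_one.1 h4).symm
      have h6 : t j * m * (t j)⁻¹ = m := (mul_inv_eq_one.1 h3.symm).symm
      refine mul_mem (mem_sup_left ?_) (mem_sup_right ?_)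
      · rcases h.t_ne i hn h5 with h7 | h7
        · rw [h7]; exact one_mem _
        · rw [h7]; exact mem_zpowers _
      · rcases h.t_ne j hm h6 with h7 | h7
        · rw [h7]; exact one_mem _
        · rw [h7]; exact mem_zpowers _
    have h4 : Nat.card ↥(A₁ ⊓ M) ≤ 4 := by
      refine (Subgroup.card_le_of_le hinf).trans ?_
      have h5 := card_sup_comm (A := zpowers (d i)) (B := zpowers (d j)) fun x hx y hy =>
        h.Vcomm x ((zpowers_le).2 (h.dV i) hx) y ((zpowers_le).2 (h.dV j) hy)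
      rw [card_zp h, card_zp h] at h5
      have h6 : 0 < Nat.card ↥(zpowers (d i) ⊓ zpowers (d j)) := Nat.card_pos
      nlinarith
    have h5 := card_sup_comm hA₁M
    have h6 := hAT.2.2 _ (isElementaryAbelian_sup hA₁el hMel (elem_le_centralizer hA₁M))
      (sup_le (inf_le_left.trans hAT.2.1) (hMV.trans (h.VQ.trans h.QT)))
    have h7 : 0 < Nat.card A₁ := Nat.card_pos
    have h8 : Nat.card ↥(A₁ ⊔ M) * Nat.card ↥(A₁ ⊓ M) ≤ Nat.card A * 4 := Nat.mul_le_mul h6 h4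
    rw [h5, h16, hcA] at h8
    omega
  · -- `A₁ N j` is a better choice
    have hA₁N := card_sup_comm hA₁c
    have hinf : A₁ ⊓ N j ≤ zpowers (d j) := by
      rintro x ⟨hx, hxN⟩
      obtain ⟨a, ha, haj⟩ : ∃ a ∈ A, ¬ ∀ v ∈ N j, a * v = v * a := by
        by_contra hcon
        push Not at hcon
        exact hAj hcon
      have haj' := (A_N h hAT ha j).resolve_left haj
      have h1 : a * x * a⁻¹ = x := fix_iff.2 (elem_comm hAT.1 a ha _ hx.1)
      rw [haj' x hxN] at h1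
      rcases h.t_ne j hxN h1 with h7 | h7
      · rw [h7]; exact one_mem _
      · rw [h7]; exact mem_zpowers _
    have h2 := Subgroup.card_le_of_le hinf
    rw [card_zp h] at h2
    have hel := isElementaryAbelian_sup hA₁el (hNel j) (elem_le_centralizer hA₁c)
    have hleT : A₁ ⊔ N j ≤ T := sup_le (inf_le_left.trans hAT.2.1) (hNT j)
    have hmem : A₁ ⊔ N j ∈ AA T := by
      rw [mem_AA_iff]
      refine ⟨hel, hleT, ?_⟩
      rw [mm_eq hAT]
      rw [h.cardN] at hA₁N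
      have h3 : Nat.card ↥(A₁ ⊔ N j) * Nat.card ↥(A₁ ⊓ N j) ≤ Nat.card ↥(A₁ ⊔ N j) * 2 :=
        Nat.mul_le_mul_left _ h2
      rw [hA₁N] at h3
      omega
    have hne' : ¬ ∀ a ∈ A₁ ⊔ N j, ∀ v ∈ N i, a * v = v * a := fun h1 => hc fun a ha => h1 a (mem_sup_left ha)
    have hle : A ⊓ Q ≤ (A₁ ⊔ N j) ⊓ Q := by
      rintro x ⟨hx, hxQ⟩
      exact ⟨mem_sup_left ⟨hx, mem_centralizer_iff.2 fun v hv => (h.VcQ x hxQ v (h.NV j hv)).symm⟩, hxQ⟩
    have h3 := hmax ⟨hmem, hne'⟩ (Subgroup.card_le_of_le hle)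
    have h4 : A ⊓ Q = (A₁ ⊔ N j) ⊓ Q := Subgroup.eq_of_le_of_card_ge hle h3
    apply hAj
    intro a ha v hv
    have h5 : v ∈ A ⊓ Q := by
      rw [h4]; exact ⟨mem_sup_right hv, h.VQ (h.NV j hv)⟩
    exact elem_comm hAT.1 a ha v h5.1

/-! ### The blocks -/

variable {i : ι} {L : Subgroup G}

theorem B_fix (h : In H T Q V N d t r) [Finite G] {b : G} (hb : b ∈ bau T) (i : ι) : b * d i = d i * b :=
  fix_iff.1 ((h.EE_good (h.bau_EE hb)).fixd i)

theorem mem_QQ {b : G} (hb : b ∈ bau T) : b ∈ QQ T N i ↔ ∀ v ∈ N i, b * v = v * b := by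
  rw [QQ, mem_inf, mem_centralizer_iff]
  exact ⟨fun h1 v hv => (h1.2 v hv).symm, fun h1 => ⟨hb, fun v hv => (h1 v hv).symm⟩⟩

theorem B_comm (h : In H T Q V N d t r) [Finite G] {b v : G} (hb : b ∈ bau T) (hv : v ∈ N i) :
    b * v * b⁻¹ * v⁻¹ ∈ zpowers (d i) := by
  rcases (h.EE_good (h.bau_EE hb)).actN i with h1 | h1
  · rw [h1 v hv, mul_inv_cancel]; exact one_mem _
  · rw [h1 v hv]
    rcases h.t_comm i v (h.NV i hv) with h2 | h2
    · rw [h2, mul_inv_cancel]; exact one_mem _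
    · rw [h2, mul_inv_cancel_right]; exact mem_zpowers _

theorem NB (h : In H T Q V N d t r) [Finite G] (i : ι) : N i ≤ bau T := le_sup_right.trans (Blk.VV_le_B h)

theorem md (h : In H T Q V N d t r) [Finite G] (i : ι) : Md (bau T) (N i) (zpowers (d i)) 2 where
  VB := NB h i
  el := isElementaryAbelian_mono h.Velem (h.NV i)
  ZV := (zpowers_le).2 (h.dN i)
  cZ := fun b hb z hz => by
    rcases mem_zp h hz with h1 | h1
    · rw [h1, mul_one, one_mul]
    · rw [h1]; exact B_fix h hb i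
  com := fun b hb v hv => B_comm h hb hv
  free := fun b hb v hv hvZ hc => by
    by_contra hcon
    have h1 : b ∉ QQ T N i := fun h2 => hcon ((mem_QQ hb).1 h2)
    rcases h.B_ne hb h1 hv (fix_iff.2 hc) with h2 | h2
    · exact hvZ (by rw [h2]; exact one_mem _)
    · exact hvZ (by rw [h2]; exact mem_zpowers _)
  ne := by
    refine ⟨t i, h.t_bau i, ?_⟩
    by_contra hcon
    push Not at hcon
    exact h.t_not_QQ i ((mem_QQ (h.t_bau i)).2 hcon)
  card := by rw [h.cardN, card_zp h]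
  cardB := by
    have h1 := Blk.relIndex_QQ (i := i) h
    rw [Subgroup.relIndex] at h1
    have h3 := ((QQ T N i).subgroupOf (bau T)).card_mul_index
    rw [Nat.card_congr (Subgroup.subgroupOfEquivOfLe (show QQ T N i ≤ bau T from inf_le_left)).toEquiv, h1] at h3
    rw [← h3, mul_comm]
    exact le_rfl
  one := one_lt_two

/-- A 2-group acting on a nontrivial elementary abelian 2-group has a nontrivial fixed point. -/
theorem exists_fix [Finite G] {P M : Subgroup G} (hP : IsPGroup 2 P) (hM : IsElementaryAbelian 2 M) (hM1 : M ≠ ⊥)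
    (hn : ∀ x ∈ P, ∀ v ∈ M, x * v * x⁻¹ ∈ M) : ∃ v ∈ M, v ≠ 1 ∧ ∀ x ∈ P, x * v * x⁻¹ = v := by
  have : Fact (Nat.Prime 2) := ⟨Nat.prime_two⟩
  let act : MulAction P M :=
    { smul := fun x v => ⟨(x : G) * v * (x : G)⁻¹, hn x x.2 v v.2⟩
      one_smul := fun v => Subtype.ext (by show (1 : G) * v * (1 : G)⁻¹ = v; group)
      mul_smul := fun x y v => Subtype.ext (by
        show ((x : G) * y) * v * ((x : G) * y)⁻¹ = x * (y * v * (y : G)⁻¹) * (x : G)⁻¹; group) }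
  have hMp : IsPGroup 2 M := fun x => ⟨1, by
    rw [pow_one]; exact Subtype.ext (elem_sq hM x x.2)⟩
  have h2 : 2 ∣ Nat.card M := by
    obtain ⟨n, hn⟩ := IsPGroup.iff_card.1 hMp
    rcases Nat.eq_zero_or_pos n with h0 | h0
    · rw [h0, pow_zero] at hn
      exact absurd (Subgroup.card_eq_one.1 hn) hM1
    · rw [hn]; exact dvd_pow_self 2 h0.ne'
  obtain ⟨v, hv, hv1⟩ := hP.exists_fixed_point_of_prime_dvd_card_of_fixed_point M h2 (a := (1 : M))
    (fun x => Subtype.ext (by show (x : G) * 1 * (x : G)⁻¹ = 1; group))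
  exact ⟨v, v.2, fun h => hv1 (Subtype.ext h.symm), fun x hx => congrArg Subtype.val (hv ⟨x, hx⟩)⟩

/-- A 2-subgroup of `L` containing `B` is `B`. -/
theorem blk_syl (k : Blk H T V d r i L) (h : In H T Q V N d t r) [Finite G] {P : Subgroup G}
    (hBP : bau T ≤ P) (hPL : P ≤ L) (hP : IsPGroup 2 P) : P = bau T := by
  refine le_antisymm ?_ hBP
  have hN1 : N i ≠ ⊥ := fun h0 => h.d1 i (by
    have := h.dN i
    rwa [h0, mem_bot] at this)
  obtain ⟨v, hv, hv1, hvf⟩ := exists_fix hP (isElementaryAbelian_mono h.Velem (h.NV i)) hN1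
    fun x hx v hv => k.L_N h (hPL hx) hv
  have hvd : v = d i := (h.t_ne i hv (hvf _ (hBP (h.t_bau i)))).resolve_left hv1
  intro x hx
  obtain ⟨b, hb, hs⟩ := h.PP_fix (k.LP (hPL hx)) (by rw [← hvd]; exact hvf x hx)
  have hcP : b⁻¹ * x ∈ P := mul_mem (inv_mem (hBP hb)) hx
  have hcH : b⁻¹ * x ∈ H := mul_mem (inv_mem (h.bau_H hb)) (k.LH h (hPL hx))
  have hcV : ∀ v ∈ V, b⁻¹ * x * v = v * (b⁻¹ * x) := by
    refine In.sim_one_iff.1 ?_
    have := hs.mul_left b⁻¹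
    rwa [inv_mul_cancel] at this
  obtain ⟨n, hn⟩ := hP ⟨_, hcP⟩
  have h1 : b⁻¹ * x ∈ Q := h.two _ hcH hcV ⟨n, by simpa using congrArg Subtype.val hn⟩
  have h2 := mul_mem hb (k.inf_Q h (mul_mem (inv_mem (k.BL hb)) (hPL hx)) h1)
  rwa [mul_inv_cancel_left] at h2

theorem blk_gen (k : Blk H T V d r i L) (h : In H T Q V N d t r) [Finite G] :
    L ≤ ⨆ x : L, cj (x : G) (bau T) := by
  obtain ⟨l, hl, hm⟩ := k.mv
  refine k.gen h hl hm ?_ ?_
  · have h1 : cj ((1 : L) : G) (bau T) ≤ ⨆ x : L, cj (x : G) (bau T) :=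
      le_iSup (fun x : L => cj (x : G) (bau T)) 1
    intro b hb
    exact h1 ⟨b, hb, by simp⟩
  · intro b hb
    exact (le_iSup (fun x : L => cj (x : G) (bau T)) ⟨l, hl⟩) ⟨b, hb, rfl⟩

/-- `[Ω₁Z(J(T)), L] ≤ N i`. -/
theorem zj_act (k : Blk H T V d r i L) (h : In H T Q V N d t r) [Finite G] {l z : G} (hl : l ∈ L)
    (hz : z ∈ zj T) : l * z * l⁻¹ * z⁻¹ ∈ N i := by
  obtain ⟨l₀, hl₀, hm⟩ := k.mv
  rcases k.Z_split h hl₀ hm hz with h1 | h1
  · have h2 := k.cent_of h hl₀ hm hz h1 l hl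
    rw [h2, mul_inv_cancel_right, mul_inv_cancel]
    exact one_mem _
  · have h2 := k.cent_of h hl₀ hm (mul_mem (h.d_mem_Z i) hz) h1 l hl
    have e : l * z * l⁻¹ * z⁻¹ = (l * d i * l⁻¹)⁻¹ * (l * (d i * z) * l⁻¹) * (d i * z)⁻¹ * d i := by group
    rw [e, h2]
    have e2 : (l * d i * l⁻¹)⁻¹ * (d i * z * l * l⁻¹) * (d i * z)⁻¹ * d i = (l * d i * l⁻¹)⁻¹ * d i := by group
    rw [e2]
    exact mul_mem (inv_mem (k.L_N h hl (h.dN i))) (h.dN i)

theorem comm_zp {g : G} (i : ι) (hg : g * d i * g⁻¹ = d i) : cj g (zpowers (d i)) = zpowers (d i) := by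
  rw [cj, MonoidHom.map_zpowers]
  change zpowers (g * d i * g⁻¹) = _
  rw [hg]

/-- `d i ∈ [N i, B]`. -/
theorem d_mem_comm (h : In H T Q V N d t r) (i : ι) : d i ∈ ⁅N i, bau T⁆ := by
  have h1 := commutator_mem_commutator (h.r_N i (h.dN i)) (h.t_bau i)
  have e : (⁅r i * d i * (r i)⁻¹, t i⁆)⁻¹ = d i := by
    rw [commutatorElement_def]
    calc (r i * d i * (r i)⁻¹ * t i * (r i * d i * (r i)⁻¹)⁻¹ * (t i)⁻¹)⁻¹
        = (t i * (r i * d i * (r i)⁻¹) * (t i)⁻¹) * (r i * d i * (r i)⁻¹)⁻¹ := by group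
      _ = d i := by rw [h.t_m i]; group
  rw [← e]
  exact inv_mem h1

/-- `N i = ⟨d, d'⟩` for `d' ∈ N i` different from `1`, `d`. -/
theorem N_le_of (h : In H T Q V N d t r) [Finite G] (i : ι) {X : Subgroup G} (hd : d i ∈ X) {x : G} (hx : x ∈ X)
    (hxN : x ∈ N i) (hx1 : x ≠ 1) (hxd : x ≠ d i) : N i ≤ X := by
  set m := r i * d i * (r i)⁻¹ with hm
  have hmX : m ∈ X := by
    rcases h.mem_N i hxN with h1 | h1 | h1 | h1
    · exact absurd h1 hx1
    · exact absurd h1 hxd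
    · rwa [h1] at hx
    · rw [h1, ← hm] at hx
      have h2 := mul_mem (inv_mem hd) hx
      rwa [inv_mul_cancel_left] at h2
  intro v hv
  rcases h.mem_N i hv with h1 | h1 | h1 | h1
  · rw [h1]; exact one_mem _
  · rw [h1]; exact hd
  · rw [h1]; exact hmX
  · rw [h1]; exact mul_mem hd hmX

theorem cj_d_ne_one (h : In H T Q V N d t r) (l : G) (i : ι) : l * d i * l⁻¹ ≠ 1 := fun e => h.d1 i (by
  calc d i = l⁻¹ * (l * d i * l⁻¹) * l := by group
    _ = 1 := by rw [e]; group)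

/-- **The FF-block.** -/
theorem fb (k : Blk H T V d r i L) (h : In H T Q V N d t r) [Finite G] :
    FB (bau T) L (N i) (zpowers (d i)) 2 where
  toMd := md h i
  BL := k.BL
  nV := fun l hl v hv => k.L_N h hl hv
  gen := blk_gen k h
  syl := fun P h1 h2 h3 => blk_syl k h h1 h2 h3
  cor := fun l hl x hx hc => (k.L_QQ h hl ((mem_QQ hx).2 hc)).1
  act := fun l hl z hz => zj_act k h hl (by rwa [ChoiceBase.zc_bau] at hz)
  sup := by
    obtain ⟨l, hl, hm⟩ := k.mv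
    refine ⟨l, hl, N_le_of h i (mem_sup_left (d_mem_comm h i)) (x := l * d i * l⁻¹)
      (mem_sup_right ⟨d i, d_mem_comm h i, rfl⟩) (k.L_N h hl (h.dN i)) (cj_d_ne_one h l i) hm⟩
  tri := fun l hl => by
    by_cases hm : l * d i * l⁻¹ = d i
    · left; exact comm_zp i hm
    · right
      intro x hx0
      obtain ⟨hx1, hx2⟩ := mem_inf.1 hx0
      rw [mem_cj] at hx1
      have h1 : x = 1 := by
        rcases mem_zp h hx2 with h2 | h2
        · exact h2
        · exfalso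
          rw [h2] at hx1
          rcases mem_zp h hx1 with h3 | h3
          · apply h.d1 i
            calc d i = l * (l⁻¹ * d i * l) * l⁻¹ := by group
              _ = 1 := by rw [h3]; group
          · apply hm
            calc l * d i * l⁻¹ = l * (l⁻¹ * d i * l) * l⁻¹ := by rw [h3]
              _ = d i := by group
      rw [h1]; exact one_mem _
  tor := fun z hz hzc z' hz' hzc' => by
    have h1 : z = d i := (mem_zp h hz).resolve_left fun e => hzc (by rw [e]; exact one_mem _)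
    have h2 : z' = d i := (mem_zp h hz').resolve_left fun e => hzc' (by rw [e]; exact one_mem _)
    refine ⟨1, one_mem _, one_mem _, ?_⟩
    rw [h1, h2]
    have e : (1 : G) * d i * 1⁻¹ * (d i)⁻¹ = 1 := by group
    rw [e]; exact one_mem _

/-! ### The frame -/

theorem mem_zj_iff (h : In H T Q V N d t r) [Finite G] {v : G} (hv : v ∈ V) :
    v ∈ zj T ↔ ∀ j ∈ jj T, j * v = v * j :=
  ⟨fun h1 => (ChoiceBase.mem_zj.1 h1).2.2, fun h1 => ChoiceBase.mem_zj.2 ⟨mem_jj_of_comm (h.QT (h.VQ hv)) (h.Vsq v hv) h1, h.Vsq v hv, h1⟩⟩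

theorem fix_t (h : In H T Q V N d t r) {v : G} (hv : v ∈ zj T) (j : ι) : t j * v * (t j)⁻¹ = v :=
  fix_iff.2 ((ChoiceBase.mem_zj.1 hv).2.2 _ (h.tJ j))

/-- `L i` centralises `C i ∩ Z_J`. -/
theorem LC (k : Blk H T V d r i L) (h : In H T Q V N d t r) [Finite G] {l z : G} (hl : l ∈ L) (hz : z ∈ zj T)
    (hc : z ∈ CC N i) : l * z = z * l := by
  have h1 : PP H T V (r i) ≤ centralizer ({z} : Set G) := by
    have key : ∀ y : G, z * y = y * z → y ∈ centralizer ({z} : Set G) := fun y hy => mem_cent.2 hy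
    refine sup_le (sup_le (fun b hb => key b ((ChoiceBase.mem_bau.1 hb).2 z hz)) ?_) ?_
    · rw [zpowers_le]
      exact key _ (r_CC h hc (fix_t h hz)).symm
    · rintro c ⟨-, hc'⟩
      exact key c (mem_centralizer_iff.1 hc' z (CC_le_V h i hc))
  exact (mem_cent.1 (h1 (k.LP hl))).symm

/-- **The frame of the symmetric blocks.** -/
theorem frame [Finite G] (h : In H T Q V N d t r) (hm : Mx G (mm T)) (hzV : zj T ≤ V)
    (hzQ : ∀ x ∈ Q, x ^ 2 = 1 → (∀ y ∈ Q, x * y = y * x) → x ∈ V) (hN : V ≤ ⨆ i, N i) {L : ι → Subgroup G}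
    (hL : ∀ i, Blk H T V d r i (L i)) :
    ∃ A : ι → Subgroup G, (∀ i, A i ∈ AA T) ∧
      Fr (bau T) Q V (zj T) L N (fun i => zpowers (d i)) (fun i => CC N i) A 2 (mm T) := by
  have hQB : Q ≤ bau T := fun x hx => ChoiceBase.mem_bau.2 ⟨h.QT hx, fun z hz => (h.VcQ x hx z (hzV hz)).symm⟩
  choose A hA hA1 hA2 using fun i => exists_A h i
  refine ⟨A, hA, ?_⟩
  exact
    { max := hm
      blk := fun i => fb (hL i) h
      cardZ := fun i => card_zp h i
      QB := hQB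
      VQ := h.VQ
      el := h.Velem
      mem_Q := fun x hx => ⟨fun hxQ v hv => h.VcQ x hxQ v hv, fun hc => h.cT (ChoiceBase.bau_le T hx) hc⟩
      zcQ := hzQ
      mem_ZJ := fun v => by
        constructor
        · intro hv
          exact ⟨hzV hv, fun b hb => ((ChoiceBase.mem_bau.1 hb).2 v hv).symm⟩
        · rintro ⟨hv, hc⟩
          exact (mem_zj_iff h hv).2 fun j hj => hc j (ChoiceBase.jj_le_bau T hj)
      LV := fun i l hl v hv => h.Vn l ((hL i).LH h hl) v hv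
      LQ := fun i l hl x hx => h.Qn l ((hL i).LH h hl) x hx
      WV := fun i => h.NV i
      CV := fun i => CC_le_V h i
      WC := fun i v hv => split_CC h hN i hv
      dir := fun i => dir h i
      C0 := fun x hx hc => C0 h hN hx hc
      WjC := fun i j hij => N_le_CC (Ne.symm hij)
      BC := fun i b hb c hc => by
        have h1 : CC N i ≤ (CC N i).comap (MulAut.conj b).toMonoidHom := by
          refine CC_le fun j hj => ?_
          intro x hx
          rw [mem_comap]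
          exact N_le_CC hj (h.B_N hb hx)
        exact h1 hc
      LC := fun i l hl z hz hc => LC (hL i) h hl hz hc
      AB := fun i => (le_jj (hA i)).trans (ChoiceBase.jj_le_bau T)
      Ael := fun i => (hA i).1
      Am := fun i => (mm_eq (hA i)).symm
      Ane := fun i => hA1 i
      AC := fun i a ha c hc => hA2 i a ha c hc }

/-! ### The blocks of LEMMA K -/

theorem irr (k : Blk H T V d r i L) (h : In H T Q V N d t r) [Finite G] {U : Subgroup G} (hU : U ≤ N i)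
    (hn : L ≤ normalizer (U : Set G)) (hne : U ≠ ⊥) : N i ≤ U := by
  obtain ⟨l, hl, hm⟩ := k.mv
  obtain ⟨u, hu, hu1⟩ := (Subgroup.bot_or_exists_ne_one U).resolve_left hne
  have hd : d i ∈ U := by
    by_cases hud : u = d i
    · rwa [← hud]
    · have h1 : t i * u * (t i)⁻¹ * u⁻¹ ∈ U :=
        mul_mem ((mem_normalizer_iff.1 (hn (k.BL (h.t_bau i))) u).1 hu) (inv_mem hu)
      rcases h.t_comm i u (h.NV i (hU hu)) with h2 | h2
      · exfalso
        rcases h.t_ne i (hU hu) h2 with h3 | h3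
        · exact hu1 h3
        · exact hud h3
      · rwa [h2, mul_inv_cancel_right] at h1
  exact N_le_of h i hd (x := l * d i * l⁻¹) ((mem_normalizer_iff.1 (hn hl) _).1 hd) (k.L_N h hl (h.dN i))
    (cj_d_ne_one h l i) hm

/-- **The block of LEMMA K.** -/
theorem block (k : Blk H T V d r i L) (h : In H T Q V N d t r) [Finite G] (hW : LemmaK.WeakNormal 2 (bau T)) :
    LemmaK.Block 2 (bau T) L (N i) :=
  (fb k h).toBlock (card_zp h i) (h.Tp.to_le (ChoiceBase.bau_le T)) hW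

/-- **The block of `LemmaK.Main`.** -/
theorem mainBlk (k : Blk H T V d r i L) (h : In H T Q V N d t r) [Finite G] : LemmaK.Main.Blk (bau T) L (N i) := by
  have hb := fb k h
  refine LemmaK.Main.Blk.of_irr hb.BL hb.gen (hb.VB.trans hb.BL) ?_ ?_ (isPGroup_of_el hb.el) (elem_comm hb.el) hb.perf ?_
  · intro w h1 h2
    have e : N i = vl (bau T) L := hb.V_eq
    rw [e]
    exact LemmaK.Endo.norm_vl h1 h2
  · exact hb.core (h.Tp.to_le (ChoiceBase.bau_le T)) (ZN.isPGroup_o2 L) (ZN.o2_le L) (ZN.le_normalizer_o2 L)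
  · intro U hU _ hn hne
    by_cases hU1 : U = ⊥
    · exact absurd (by rw [hU1]; exact bot_le) hne
    · exact irr k h hU hn hU1

/-- **The frame from `SymOut`**, with a `T`-equivariant choice of the blocks. -/
theorem symFr [Finite G] {ι : Type} {N : ι → Subgroup G} {d t r : ι → G} (h : SymOut T H V N d t r)
    (hm : Mx G (mm T)) : ∃ L A : ι → Subgroup G, (∀ i, Blk H T V d r i (L i)) ∧
      (∀ x ∈ T, ∀ i j, x * d i * x⁻¹ = d j → cj x (L i) = L j) ∧ (∀ i, A i ∈ AA T) ∧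
      Fr (bau T) (o2 H) V (zj T) L N (fun i => zpowers (d i)) (fun i => CC N i) A 2 (mm T) := by
  obtain ⟨L, hL, hc⟩ := h.bau.exists_blks h.permR
  obtain ⟨A, hA, hF⟩ := frame h.bau hm h.zj_le (fun x hx h2 hxc => by
    rw [← h.zc_eq]
    exact ChoiceBase.mem_zc.2 ⟨hx, h2, fun y hy => (hxc y hy).symm⟩) h.V_eq.le hL
  exact ⟨L, A, hL, hc, hA, hF⟩

end Cfsg.Agent.Omega.OM.FrSym

end

section


/-!
# The FF line of NO-3S with several blocks: the case distinction (E) / (Om) of TEXT R1 (#14539)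

`Line S P L W Z C A q` : `HypJ S P` and the frame `Uni.Fr` over `B = bau S` with at least two blocks `L i`
(`V_P` the product of the `W i`, `Z_J = zj S = Ω₁(Z(B))` the product of the `Z i`).

* `exists_nat`, `exists_sym` : natural and symmetric modules;
* `Line.norm` : `N_G(B) ≤ N_G(V)`, it permutes the `Z i` (4);
* `Line.fam`, `Line.P_le` : the family of all FF-blocks over `B`, `P ≤ ⟨K0, S⟩`;
* `Line.cases` : **(5)** either `K0 S` normalises no nontrivial 2-subgroup, or `M = N_G(O₂(K0))` is local,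
  `O₂(K0) ≤ B`, and `M` contains `C_G(Z_J)`, all FF-blocks over `B`, `N_G(B)` and `P`;
* `Line.gen` : **(O1+)**.
* `Line.uniPlus` : **UNI+**.
-/

set_option autoImplicit false

namespace Cfsg.Agent.Omega.OM

open Subgroup Cfsg Cfsg.Agent.ZN.ChoiceBase Cfsg.Agent.ZN.ChoiceSit
open Cfsg.Agent.ZN (jj zj bau zc zl o2)
open Cfsg.Agent.MinSimple.MinParabolic (IsMinPar)
open Cfsg.Agent.MinSimple.VModule (oddGen)
open Cfsg.Agent.Omega.MinPar (IsPar IsParS NonLoc)
open Cfsg.Agent.Omega.LemmaK (Block WeakNormal)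
open Cfsg.Agent.Omega.LemmaK.Main (le_normalizer_bau)
open Cfsg.Agent.Omega.FFThm (NatK SymK)
open Cfsg.Agent.Omega.FrameFF (cv)
open Cfsg.Agent.Omega.NO3S (HypJ)
open Cfsg.Agent.Omega.OM.Uni (FB Fr)
open Cfsg.Agent.Omega.OM.Dich (K0 Fam)
open Cfsg.Agent.Omega.OM.BlkGen (FBlk)
open Cfsg.Agent.Omega.OM.UniPlus (NB)
open scoped Pointwise commutatorElement

universe u

variable {G : Type u} [Group G] [Finite G]

/-- The FF line with several blocks. -/
structure Line {ι : Type} (S : Sylow 2 G) (P : Subgroup G) (L W Z C A : ι → Subgroup G) (q : ℕ) : Prop where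
  hyp : HypJ S P
  fr : Fr (bau (S : Subgroup G)) (o2 P) (zl (S : Subgroup G) P) (zj (S : Subgroup G)) L W Z C A q
    (mm (S : Subgroup G))
  two : ∀ i : ι, ∃ j, j ≠ i

section line

variable {ι : Type} [Finite ι] {S : Sylow 2 G} {P : Subgroup G} {L W Z C A : ι → Subgroup G} {q : ℕ}

theorem weakNormal (S : Sylow 2 G) : WeakNormal 2 (bau (S : Subgroup G)) := fun _ hR hBR =>
  le_normalizer_bau S hR hBR

omit [Finite ι] in
theorem Line.fblk (h : Line S P L W Z C A q) (i : ι) : FBlk (S : Subgroup G) (L i) (W i) where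
  fb := ⟨_, _, h.fr.blk i⟩
  blk := (h.fr.blk i).toBlock (h.fr.cardZ i) (S.isPGroup'.to_le (bau_le _)) (weakNormal S)

theorem Line.fam (h : Line S P L W Z C A q) : Fam S (FBlk (S : Subgroup G)) := by
  refine BlkGen.fam ?_
  refine (h.fr.ZJV.trans h.fr.V_eq.le).trans (iSup_le fun i => ?_)
  exact le_iSup (fun i : {x : Subgroup G × Subgroup G // FBlk (S : Subgroup G) x.1 x.2} => i.1.2)
    ⟨(L i, W i), h.fblk i⟩

omit [Finite ι] in
theorem Line.S_ne (h : Line S P L W Z C A q) : (S : Subgroup G) ≠ ⊥ := h.hyp.ctx.sylow_ne_bot S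

/-- **(4)** -/
theorem Line.norm (h : Line S P L W Z C A q) {g : G} (hg : g ∈ normalizer (bau (S : Subgroup G) : Set G)) :
    cj g (zl (S : Subgroup G) P) = zl (S : Subgroup G) P ∧
      ∀ i, ∃ j, cj g (Z i) = Z j ∧ cj g (W i) ≤ W j ⊔ zj (S : Subgroup G) :=
  Uni.norm_bau h.hyp.ctx.char2 S h.hyp.noFF h.hyp.star h.S_ne h.fr h.fr.QB hg

theorem Line.norm_le (h : Line S P L W Z C A q) :
    normalizer (bau (S : Subgroup G) : Set G) ≤ normalizer (zl (S : Subgroup G) P : Set G) := fun g hg => by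
  rw [mem_normalizer_iff_cj]
  exact (h.norm hg).1

theorem Line.S_le (S : Sylow 2 G) : (S : Subgroup G) ≤ normalizer (bau (S : Subgroup G) : Set G) :=
  le_normalizer_bau S S.isPGroup' (bau_le _)

/-- `P ≤ ⟨K0, S⟩`. -/
theorem Line.P_le (h : Line S P L W Z C A q) (hFF : FFThm.Stmt.{u}) :
    P ≤ K0 (S : Subgroup G) (FBlk (S : Subgroup G)) ⊔ S := by
  refine BlkGen.blkGen hFF S h.hyp.toHyp.syl (bau_le _) h.hyp.star.toIsMinPar
    (h.hyp.star.isLoc.char2 S h.hyp.ctx.char2) h.hyp.jnot fun hc => ?_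
  exact h.hyp.star.not_zc (hc.trans (centralizer_le_normalizer _))

/-- **(5)**: (E) or (Om). -/
theorem Line.cases (h : Line S P L W Z C A q) (hFF : FFThm.Stmt.{u}) :
    (∀ R : Subgroup G, IsPGroup 2 R →
      K0 (S : Subgroup G) (FBlk (S : Subgroup G)) ≤ normalizer (R : Set G) → R = ⊥) ∨
    ∃ M : Subgroup G, M = normalizer (o2 (K0 (S : Subgroup G) (FBlk (S : Subgroup G))) : Set G) ∧
      o2 (K0 (S : Subgroup G) (FBlk (S : Subgroup G))) ≠ ⊥ ∧
      o2 (K0 (S : Subgroup G) (FBlk (S : Subgroup G))) ≤ bau (S : Subgroup G) ∧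
      K0 (S : Subgroup G) (FBlk (S : Subgroup G)) ≤ M ∧
      centralizer (zj (S : Subgroup G) : Set G) ≤ M ∧ (∀ L V, FBlk (S : Subgroup G) L V → L ≤ M) ∧
      normalizer (bau (S : Subgroup G) : Set G) ≤ M ∧ (S : Subgroup G) ≤ M ∧ P ≤ M := by
  by_cases hE : ∀ R : Subgroup G, IsPGroup 2 R →
      K0 (S : Subgroup G) (FBlk (S : Subgroup G)) ≤ normalizer (R : Set G) → R = ⊥
  · exact Or.inl hE
  right
  push Not at hE
  obtain ⟨R, hR, hRn, hR1⟩ := hE
  obtain ⟨h1, h2, h3⟩ := h.fam.dich hR hR1 hRn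
  have h4 : K0 (S : Subgroup G) (FBlk (S : Subgroup G)) ≤
      normalizer (o2 (K0 (S : Subgroup G) (FBlk (S : Subgroup G))) : Set G) := le_sup_left.trans h3
  have h5 : (S : Subgroup G) ≤ normalizer (o2 (K0 (S : Subgroup G) (FBlk (S : Subgroup G))) : Set G) :=
    (Line.S_le S).trans (le_sup_right.trans h3)
  exact ⟨_, rfl, h1, h2, h4, Dich.cent_le_K0.trans h4, fun L V hL => (Dich.blk_le_K0 hL).trans h4,
    le_sup_right.trans h3, h5, (h.P_le hFF).trans (sup_le h4 h5)⟩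

/-- **(O1+)** -/
theorem Line.gen (_h : Line S P L W Z C A q) (hFF : FFThm.Stmt.{u}) (hA : FFBr.AStmt.{u}) {M T H : Subgroup G}
    (hK : K0 (S : Subgroup G) (FBlk (S : Subgroup G)) ≤ M) (hN : normalizer (bau (S : Subgroup G) : Set G) ≤ M)
    (hT : Syl T H) (hB : bau (S : Subgroup G) ≤ T) (hc : H ⊓ centralizer (o2 H : Set G) ≤ o2 H) :
    H ≤ (H ⊓ M) ⊔ ⨆ Y : {Y : Subgroup G // IsMinPar T Y ∧ Y ≤ H ∧ ¬ jj T ≤ o2 Y ∧
      Y ≤ centralizer (zc T : Set G) ∧ ¬ o2 Y ≤ bau (S : Subgroup G)}, (Y : Subgroup G) :=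
  BlkGen.gen hFF hA hK hN hT hB hc

/-- **UNI+** -/
theorem Line.uniPlus (h : Line S P L W Z C A q) {L' V' Z' : Subgroup G} {q' : ℕ}
    (h' : FB (bau (S : Subgroup G)) L' V' Z' q') :
    q' = q ∧ ∃ i, Z' = Z i ∧ NB (bau (S : Subgroup G)) L' V' (Z i) q ∧
      ((V' ≤ W i ⊔ zj (S : Subgroup G) ∧
          (∀ z ∈ zj (S : Subgroup G), z ∈ C i ↔ ∀ l ∈ L', l * z = z * l) ∧
          (q = 2 → V' = W i ∧ L' ≤ L i ⊔ centralizer ((W i ⊔ zj (S : Subgroup G) : Subgroup G) : Set G))) ∨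
        (q = 2 ∧ Nat.card (zj (S : Subgroup G)) = 4 ∧ (∃ w' ∈ V', ∃ w ∈ W i, w' * w ≠ w * w') ∧
          ∃ c ∈ zj (S : Subgroup G), c ≠ 1 ∧ (∀ l ∈ L', l * c = c * l) ∧ ∀ k, c ∉ C k)) := by
  refine UniPlus.uniPlus' h.hyp.ctx.char2 h.fr (S.isPGroup'.to_le (bau_le _)) (UniPlus.wc_bau S)
    (fun g hg w hw v hv => ?_) h.two h'
  rw [(h.norm hg).1] at hw
  exact h.fr.Vc hw hv

end line

/-! ### The instances -/

namespace Line


/-- natural modules -/
theorem exists_nat {S : Sylow 2 G} {P : Subgroup G} (h : HypJ S P) {F : Type} [Field F] [Finite F] [CharP F 2]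
    {k : ℕ} (hk : 2 ≤ k)
    (N : NatK F (S : Subgroup G) P (zl (S : Subgroup G) P) (cv (S : Subgroup G) P) k) :
    ∃ L W Z C A : Fin k → Subgroup G, (∀ i, A i ∈ AA (S : Subgroup G)) ∧
      (∀ i v, v ∈ W i ↔ v ∈ zl (S : Subgroup G) P ∧ ∀ j, j ≠ i → N.e v j = 0) ∧
      (∀ i v, v ∈ C i ↔ v ∈ zl (S : Subgroup G) P ∧ N.e v i = 0) ∧
      (∀ i v, v ∈ Z i ↔ v ∈ W i ∧ N.e v i 1 = 0) ∧
      Line S P L W Z C A (Nat.card F) := by
  obtain ⟨L, Z, A, -, hA, -, hZ, hF⟩ := Uni.natFr h.toHyp.syl h.star.toIsMinPar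
    (h.star.isLoc.char2 S h.ctx.char2) h.jnot (by omega) N h.toHyp.cv (Uni.mx_sylow S)
  refine ⟨L, _, Z, _, A, hA, fun i v => Iff.rfl, fun i v => Iff.rfl, hZ, h, hF, fun i => ?_⟩
  have : Nontrivial (Fin k) := Fin.nontrivial_iff_two_le.2 hk
  exact exists_ne i

/-- `|V| ≥ 2^m + 1` -/
theorem card_sym {T H V D : Subgroup G} {k m : ℕ} (hk : 0 < k) (N : SymK T H V D k m) :
    2 ^ m + 1 ≤ Nat.card V := by
  classical
  have h1 : ∀ x : Fin (2 ^ m + 1), ∃ v ∈ V, N.e v = fun _ z =>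
      (if z = 0 then 1 else 0) + (if z = x then 1 else 0) := by
    intro x
    refine N.surj _ fun i => ?_
    rw [Finset.sum_add_distrib, Finset.sum_ite_eq', Finset.sum_ite_eq']
    simp only [Finset.mem_univ, if_true]
    exact CharTwo.add_self_eq_zero 1
  choose f hf1 hf2 using h1
  have h2 : Function.Injective fun x => (⟨f x, hf1 x⟩ : V) := by
    intro x y hxy
    have e : f x = f y := congrArg Subtype.val hxy
    have e2 := congrFun (congrFun ((hf2 x).symm.trans ((congrArg N.e e).trans (hf2 y))) ⟨0, hk⟩) x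
    simp only [if_true] at e2
    have e3 := add_left_cancel e2
    by_contra hne
    rw [if_neg hne] at e3
    exact one_ne_zero e3
  have h3 := Nat.card_le_card_of_injective _ h2
  rwa [Nat.card_fin] at h3

/-- symmetric modules (`m ≥ 2`) -/
theorem exists_sym {S : Sylow 2 G} {P : Subgroup G} (h : HypJ S P) {k m : ℕ} (hk : 0 < k) (hm : 2 ≤ m)
    (N : SymK (S : Subgroup G) P (zl (S : Subgroup G) P) (cv (S : Subgroup G) P) k m) :
    ∃ (ι : Type) (_ : Finite ι) (W : ι → Subgroup G) (d t r : ι → G) (L A : ι → Subgroup G),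
      SymOut (S : Subgroup G) P (zl (S : Subgroup G) P) W d t r ∧
      (∀ i, SQ1.BauS.Blk P (S : Subgroup G) (zl (S : Subgroup G) P) d r i (L i)) ∧
      (∀ x ∈ (S : Subgroup G), ∀ i j, x * d i * x⁻¹ = d j → cj x (L i) = L j) ∧
      (∀ i, A i ∈ AA (S : Subgroup G)) ∧
      Line S P L W (fun i => zpowers (d i)) (fun i => FrSym.CC W i) A 2 := by
  obtain ⟨ι, J, X, Y, t, r, h0, -, h2⟩ := symOut h.toHyp.syl h.star.toIsMinPar
    (h.star.isLoc.char2 S h.ctx.char2) h.jnot hk (by omega) N h.toHyp.cv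
  obtain ⟨L, A, hL, hc, hA, hF⟩ := FrSym.symFr h2 (Uni.mx_sylow S)
  have hfin : Finite ι := h2.bau.finite_index
  refine ⟨ι, hfin, _, _, t, r, L, A, h2, hL, hc, hA, h, hF, fun i => ?_⟩
  by_contra hcon
  push Not at hcon
  have h3 : zl (S : Subgroup G) P = h0.NN (J i) 0 (X i) (Y i) := by
    refine le_antisymm (h2.V_eq.le.trans (iSup_le fun j => ?_)) (h2.bau.NV i)
    rw [hcon j]
  have h4 := h2.bau.cardN i
  rw [← h3] at h4
  have h5 := card_sym hk N
  have h6 : 2 ^ 2 ≤ 2 ^ m := Nat.pow_le_pow_right (by norm_num) hm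
  omega

end Line

end Cfsg.Agent.Omega.OM

end

section


/-!
# The FF line with several blocks, `q = 2`: `K0 = ⟨C_G(Z_J), L_1, .., L_k⟩`

The second alternative of UNI+ (`Line.uniPlus`) is void: there `c = z₁z₂` is the only nontrivial element of `Z_J` fixed
by `S`, so the block `L'` lies in `C_G(Z)`, `V ≤ O₂(C_G(Z))` centralises its module (LEMMA K).

* `Line.uniTwo` : `q = 2`: every FF-block `L'` over `B` has `V' = W i`, `L' ≤ L i C_G(W i Z_J)` for some `i`;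
* `Line.K0_eq` : `K0 S (FBlk S) = C_G(Z_J) ⊔ ⨆ L i`.
-/

set_option autoImplicit false

namespace Cfsg.Agent.Omega.OM

open Subgroup Cfsg Cfsg.Agent.ZN.ChoiceBase Cfsg.Agent.ZN.ChoiceSit
open Cfsg.Agent.ZN (jj zj bau zc zl o2)
open Cfsg.Agent.Omega.LemmaK (Block)
open Cfsg.Agent.Omega.OM.Uni (FB Fr)
open Cfsg.Agent.Omega.OM.Dich (K0)
open Cfsg.Agent.Omega.OM.BlkGen (FBlk)
open scoped Pointwise

universe u

variable {G : Type u} [Group G] [Finite G]

section line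

variable {ι : Type} [Finite ι] {S : Sylow 2 G} {P : Subgroup G} {L W Z C A : ι → Subgroup G}

omit [Finite ι] in
theorem Line.exists_z (h : Line S P L W Z C A 2) (i : ι) : ∃ z ∈ Z i, z ≠ 1 ∧ ∀ x ∈ Z i, x = 1 ∨ x = z := by
  have h1 := h.fr.cardZ i
  obtain ⟨z, hz1, hz2⟩ := Nat.card_eq_two_iff' (1 : Z i) |>.1 h1
  refine ⟨z, z.2, fun e => hz1 (Subtype.ext e), fun x hx => ?_⟩
  by_cases hx1 : x = 1
  · exact Or.inl hx1
  · exact Or.inr (congrArg Subtype.val (hz2 ⟨x, hx⟩ fun e => hx1 (congrArg Subtype.val e)))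

/-- **UNI+ for `q = 2`**: the second alternative is void. -/
theorem Line.uniTwo (h : Line S P L W Z C A 2)
    (htr : ∀ i j : ι, ∃ s ∈ (S : Subgroup G), cj s (Z i) = Z j) {L' V' Z' : Subgroup G} {q' : ℕ}
    (h' : FB (bau (S : Subgroup G)) L' V' Z' q') (hb : Block 2 (bau (S : Subgroup G)) L' V') :
    ∃ i, Z' = Z i ∧ V' = W i ∧ L' ≤ L i ⊔ centralizer ((W i ⊔ zj (S : Subgroup G) : Subgroup G) : Set G) := by
  have : Fact (Nat.Prime 2) := ⟨Nat.prime_two⟩
  obtain ⟨-, i, hZ, -, ⟨-, -, h2⟩ | ⟨-, hcard, ⟨w', hw', w, hw, hne⟩, c, hc, hc1, hcL, hcC⟩⟩ := h.uniPlus h'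
  · exact ⟨i, hZ, h2 rfl⟩
  exfalso
  obtain ⟨j, hji⟩ := h.two i
  obtain ⟨zi, hzi, hzi1, hzi2⟩ := h.exists_z i
  obtain ⟨zj', hzj, hzj1, hzj2⟩ := h.exists_z j
  have hiJ : zi ∈ zj (S : Subgroup G) := h.fr.Z_le i hzi
  have hjJ : zj' ∈ zj (S : Subgroup G) := h.fr.Z_le j hzj
  have hiC : ∀ k, k ≠ i → zi ∈ C k := fun k hk => h.fr.WjC k i hk ((h.fr.blk i).ZV hzi)
  have hjC : ∀ k, k ≠ j → zj' ∈ C k := fun k hk => h.fr.WjC k j hk ((h.fr.blk j).ZV hzj)
  have hij : zi ≠ zj' := by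
    intro e
    apply hzi1
    have h1 : zi ∈ W i ⊓ C i := ⟨(h.fr.blk i).ZV hzi, by rw [e]; exact hjC i hji.symm⟩
    rw [h.fr.dir i, mem_bot] at h1
    exact h1
  have hci : c ≠ zi := fun e => hcC j (e ▸ hiC j hji)
  have hcj : c ≠ zj' := fun e => hcC i (e ▸ hjC i hji.symm)
  -- `Z_J = {1, z_i, z_j, c}`
  have hfour : ∀ x ∈ zj (S : Subgroup G), x = 1 ∨ x = zi ∨ x = zj' ∨ x = c := by
    intro x hx
    by_contra hcon
    push Not at hcon
    obtain ⟨h1, h2, h3, h4⟩ := hcon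
    have hinj : Function.Injective (![⟨1, one_mem _⟩, ⟨zi, hiJ⟩, ⟨zj', hjJ⟩, ⟨c, hc⟩, ⟨x, hx⟩] :
        Fin 5 → zj (S : Subgroup G)) := by
      intro a b hab
      have e := congrArg Subtype.val hab
      fin_cases a <;> fin_cases b <;> simp at e ⊢ <;>
        first
        | exact (hzi1 e.symm).elim | exact (hzi1 e).elim | exact (hzj1 e.symm).elim | exact (hzj1 e).elim
        | exact (hc1 e.symm).elim | exact (hc1 e).elim | exact (h1 e.symm).elim | exact (h1 e).elim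
        | exact (hij e).elim | exact (hij e.symm).elim | exact (hci e).elim | exact (hci e.symm).elim
        | exact (hcj e).elim | exact (hcj e.symm).elim | exact (h2 e).elim | exact (h2 e.symm).elim
        | exact (h3 e).elim | exact (h3 e.symm).elim | exact (h4 e).elim | exact (h4 e.symm).elim
    have h5 := Nat.card_le_card_of_injective _ hinj
    rw [hcard, Nat.card_eq_fintype_card, Fintype.card_fin] at h5
    omega
  -- `Ω₁(Z(S)) ≤ {1, c}`
  have hzc : ∀ x ∈ zc (S : Subgroup G), x = 1 ∨ x = c := by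
    intro x hx
    have hxJ : x ∈ zj (S : Subgroup G) := zc_le_zj _ hx
    have hno : ∀ k l : ι, k ≠ l → ∀ y, y ∈ Z k → y ≠ 1 → x ≠ y := by
      intro k l hkl y hy hy1 e
      obtain ⟨s, hs, hsZ⟩ := htr k l
      have h1 : s * x * s⁻¹ ∈ Z l := by
        rw [← hsZ, e]
        exact ⟨y, hy, rfl⟩
      have h2 := (mem_zc.1 hx).2.2 s hs
      have h3 : s * x * s⁻¹ = x := by rw [h2]; group
      rw [h3] at h1
      apply hy1
      have h4 : y ∈ W k ⊓ C k := ⟨(h.fr.blk k).ZV hy, h.fr.WjC k l hkl ((h.fr.blk l).ZV (e ▸ h1))⟩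
      rw [h.fr.dir k, mem_bot] at h4
      exact h4
    rcases hfour x hxJ with h1 | h1 | h1 | h1
    · exact Or.inl h1
    · exact (hno i j hji.symm zi hzi hzi1 h1).elim
    · exact (hno j i hji zj' hzj hzj1 h1).elim
    · exact Or.inr h1
  -- `L' ≤ C_G(Z)`
  have hL' : L' ≤ centralizer (zc (S : Subgroup G) : Set G) := by
    intro l hl
    rw [mem_centralizer_iff]
    intro x hx
    rcases hzc x hx with rfl | rfl
    · rw [one_mul, mul_one]
    · exact (hcL l hl).symm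
  have hH := h.hyp.low P h.hyp.star
  have h1 := hb.le_centralizer (isPGroup_o2 (centralizer (zc (S : Subgroup G) : Set G)))
    (hL'.trans (le_normalizer_o2 _))
  have hwV : w ∈ zl (S : Subgroup G) P := h.fr.WV i hw
  exact hne (mem_centralizer_iff.1 (h1 (hH hwV)) w' hw')

/-- **`K0 = ⟨C_G(Z_J), L_1, .., L_k⟩`.** -/
theorem Line.K0_eq (h : Line S P L W Z C A 2)
    (htr : ∀ i j : ι, ∃ s ∈ (S : Subgroup G), cj s (Z i) = Z j) :
    K0 (S : Subgroup G) (FBlk (S : Subgroup G)) = centralizer (zj (S : Subgroup G) : Set G) ⊔ ⨆ i, L i := by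
  apply le_antisymm
  · refine sup_le le_sup_left (iSup_le ?_)
    rintro ⟨⟨L', V'⟩, ⟨Z', q', hF⟩, hb⟩
    obtain ⟨i, -, -, hle⟩ := h.uniTwo htr hF hb
    refine hle.trans (sup_le (le_sup_of_le_right (le_iSup L i)) (le_sup_of_le_left (centralizer_le ?_)))
    exact_mod_cast (le_sup_right : zj (S : Subgroup G) ≤ W i ⊔ zj (S : Subgroup G))
  · exact sup_le Dich.cent_le_K0 (iSup_le fun i => Dich.blk_le_K0 (h.fblk i))

end line

end Cfsg.Agent.Omega.OM

end

section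


/-!
# LEMMA FIX (bb OMEGA #19750 (1) helper609, #19817 helper929; here elementwise, all `q`)

`Q ≥ V` with `V ≤ Z(Q)`, `A` an elementary abelian 2-group normalising `Q` and `V` with `C_A(V) ≤ Q`, acting on `V` as one
full root group: `[V, A] ≤ R ≤ C_V(A)`, `|R| = |A : C_A(V)| = |V : C_V(A)| = q`, `C_V(a) = C_V(A)` for `a ∈ A - C(V)`.
`y ≤ V` with `C_y(A) = 1`. If `e ∈ Q`, `e² = 1`, `[e, Q] ≤ y` and `|X : C_X(A)| ≤ |A : C_A(X)|` for all `A`-invariant
elementary abelian `X` between `V` and `Q`, then `[e, Q] = 1`.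

* `FixLem.main` : the abstract lemma;
* `Fr.fix` : in the frame `Uni.Fr`: `e ∈ Q` an involution, `[e, Q] ≤ y ≤ Z_J`, `y ∩ C i = 1` ⟹ `e ∈ V`;
* `Line.fix`.
-/

set_option autoImplicit false

namespace Cfsg.Agent.Omega.OM.FixLem

open Subgroup Cfsg Cfsg.Agent.PLocal.ElemAbSup Cfsg.Agent.ZN.ChoiceBase Cfsg.Agent.ZN.ChoiceSit
open Cfsg.Agent.ZN (jj zj bau zc zl o2)
open Cfsg.Agent.Omega.SQ1.Bau (mem_sup_comm card_sup_comm elem_comm elem_sq)
open Cfsg.Agent.Omega.OM.BlockUniq (Mx)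
open Cfsg.Agent.Omega.OM.Uni (FB Fr)

universe u

variable {G : Type u} [Group G]

/-- The hypotheses. -/
structure Fx (A Q V R y : Subgroup G) (q : ℕ) : Prop where
  Ael : IsElementaryAbelian 2 A
  Vel : IsElementaryAbelian 2 V
  VQ : V ≤ Q
  VcQ : ∀ v ∈ V, ∀ x ∈ Q, v * x = x * v
  AQ : ∀ a ∈ A, cj a Q = Q
  cA : ∀ a ∈ A, (∀ v ∈ V, a * v = v * a) → a ∈ Q
  RV : R ≤ V
  RA : ∀ a ∈ A, ∀ r ∈ R, a * r = r * a
  com : ∀ a ∈ A, ∀ v ∈ V, a * v * a⁻¹ * v⁻¹ ∈ R
  cardR : Nat.card R = q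
  cardA : (centralizer (V : Set G)).relIndex A = q
  cardV : (centralizer (A : Set G)).relIndex V = q
  free : ∀ a ∈ A, ∀ v ∈ V, a * v = v * a → v ∉ centralizer (A : Set G) → ∀ u ∈ V, a * u = u * a
  yV : y ≤ V
  yA : ∀ u ∈ y, (∀ a ∈ A, a * u = u * a) → u = 1
  off : ∀ X : Subgroup G, IsElementaryAbelian 2 X → V ≤ X → X ≤ Q → (∀ a ∈ A, cj a X = X) →
    (centralizer (A : Set G)).relIndex X ≤ (centralizer (X : Set G)).relIndex A

namespace Fx

variable {A Q V R y : Subgroup G} {q : ℕ}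

theorem Ac (h : Fx A Q V R y q) {a b : G} (ha : a ∈ A) (hb : b ∈ A) : a * b = b * a := elem_comm h.Ael a ha b hb

theorem Vc (h : Fx A Q V R y q) {a b : G} (ha : a ∈ V) (hb : b ∈ V) : a * b = b * a := elem_comm h.Vel a ha b hb

theorem AQ' (h : Fx A Q V R y q) {a : G} (ha : a ∈ A) {x : G} (hx : x ∈ Q) : a * x * a⁻¹ ∈ Q := by
  rw [← h.AQ a ha]
  exact ⟨x, hx, rfl⟩

theorem AV (h : Fx A Q V R y q) {a : G} (ha : a ∈ A) {v : G} (hv : v ∈ V) : a * v * a⁻¹ ∈ V := by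
  have h1 := mul_mem (h.RV (h.com a ha v hv)) hv
  have e : a * v * a⁻¹ * v⁻¹ * v = a * v * a⁻¹ := by group
  rwa [e] at h1

/-- `y ∩ y^a = 1` for `a ∈ A - C(V)` -/
theorem y_inf (h : Fx A Q V R y q) {a : G} (ha : a ∈ A) (hn : ¬ ∀ u ∈ V, a * u = u * a) {c : G} (hc : c ∈ y)
    (hc' : c ∈ cj a y) : c = 1 := by
  obtain ⟨u, hu, rfl⟩ := hc'
  change a * u * a⁻¹ ∈ y at hc
  change a * u * a⁻¹ = 1
  have h1 := h.com a ha u (h.yV hu)
  have h2 : a * u * a⁻¹ * u⁻¹ = 1 := h.yA _ (mul_mem hc (inv_mem hu)) fun b hb => h.RA b hb _ h1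
  have h3 : a * u = u * a := mul_inv_eq_iff_eq_mul.1 (mul_inv_eq_one.1 h2)
  by_cases hu1 : u = 1
  · rw [hu1]; simp
  exfalso
  refine hn (h.free a ha u (h.yV hu) h3 fun hcu => hu1 (h.yA u hu fun b hb => ?_))
  exact mem_centralizer_iff.1 hcu b hb

/-- `Q` normalises `⟨e⟩ V`; `[x, e] ∈ V`. -/
theorem comm_V (h : Fx A Q V R y q) {e : G} (hey : ∀ x ∈ Q, e * x * e⁻¹ * x⁻¹ ∈ y) {x : G} (hx : x ∈ Q) :
    x * e * x⁻¹ * e⁻¹ ∈ y := by
  have h1 := hey x hx
  have e1 : x * e * x⁻¹ * e⁻¹ = (e * x * e⁻¹ * x⁻¹)⁻¹ := by group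
  rw [e1]
  exact inv_mem h1

/-- the conjugates of `e` under `A` commute -/
theorem conj_comm (h : Fx A Q V R y q) {e : G} (he : e ∈ Q) (hey : ∀ x ∈ Q, e * x * e⁻¹ * x⁻¹ ∈ y)
    {a : G} (ha : a ∈ A) (hn : ¬ ∀ u ∈ V, a * u = u * a) : e * (a * e * a⁻¹) = (a * e * a⁻¹) * e := by
  have h1 := hey _ (h.AQ' ha he)
  have h2 : e * (a * e * a⁻¹) * e⁻¹ * (a * e * a⁻¹)⁻¹ ∈ cj a y := by
    rw [mem_cj]
    have h3 := h.comm_V hey (h.AQ' (inv_mem ha) he)
    rw [inv_inv] at h3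
    have e1 : a⁻¹ * (e * (a * e * a⁻¹) * e⁻¹ * (a * e * a⁻¹)⁻¹) * a =
        a⁻¹ * e * a * e * (a⁻¹ * e * a)⁻¹ * e⁻¹ := by group
    rwa [e1]
  have h3 := h.y_inf ha hn h1 h2
  exact mul_inv_eq_iff_eq_mul.1 (mul_inv_eq_one.1 h3)

theorem conj_comm' (h : Fx A Q V R y q) {e : G} (he : e ∈ Q) (he2 : e * e = 1)
    (hey : ∀ x ∈ Q, e * x * e⁻¹ * x⁻¹ ∈ y) {a : G} (ha : a ∈ A) :
    e * (a * e * a⁻¹) = (a * e * a⁻¹) * e := by
  by_cases hn : ∀ u ∈ V, a * u = u * a
  · have haQ := h.cA a ha hn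
    have h1 := h.yV (h.comm_V hey haQ)
    have h2 := h.VcQ _ h1 e he
    have e1 : a * e * a⁻¹ = (a * e * a⁻¹ * e⁻¹) * e := by group
    rw [e1, ← mul_assoc, ← h2]
  · exact h.conj_comm he hey ha hn

theorem conj_comm'' (h : Fx A Q V R y q) {e : G} (he : e ∈ Q) (he2 : e * e = 1)
    (hey : ∀ x ∈ Q, e * x * e⁻¹ * x⁻¹ ∈ y) {a b : G} (ha : a ∈ A) (hb : b ∈ A) :
    (a * e * a⁻¹) * (b * e * b⁻¹) = (b * e * b⁻¹) * (a * e * a⁻¹) := by
  have h1 := h.conj_comm' he he2 hey (mul_mem (inv_mem ha) hb)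
  have h2 := congrArg (fun t => a * t * a⁻¹) h1
  have e1 : a * (e * (a⁻¹ * b * e * (a⁻¹ * b)⁻¹)) * a⁻¹ = (a * e * a⁻¹) * (b * e * b⁻¹) := by group
  have e2 : a * (a⁻¹ * b * e * (a⁻¹ * b)⁻¹ * e) * a⁻¹ = (b * e * b⁻¹) * (a * e * a⁻¹) := by group
  rw [← e1, ← e2]
  exact h2

/-- `X_e = ⟨e^a : a ∈ A⟩ V` -/
def XX (A V : Subgroup G) (e : G) : Subgroup G := V ⊔ ⨆ a : A, zpowers ((a : G) * e * (a : G)⁻¹)

theorem conj_mem_XX {a e : G} (ha : a ∈ A) : a * e * a⁻¹ ∈ XX A V e :=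
  mem_sup_right ((le_iSup (fun a : A => zpowers ((a : G) * e * (a : G)⁻¹)) ⟨a, ha⟩) (mem_zpowers _))

theorem mem_XX {e : G} : e ∈ XX A V e := by
  have := conj_mem_XX (A := A) (V := V) (e := e) (one_mem A)
  simpa using this

theorem XX_le {e : G} {Y : Subgroup G} (hV : V ≤ Y) (he : ∀ a ∈ A, a * e * a⁻¹ ∈ Y) : XX A V e ≤ Y :=
  sup_le hV (iSup_le fun a => (zpowers_le.2 (he a a.2)))

theorem XX_cj (h : Fx A Q V R y q) {e a : G} (ha : a ∈ A) : cj a (XX A V e) ≤ XX A V e := by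
  have h1 : XX A V e ≤ cj a⁻¹ (XX A V e) := by
    refine XX_le (fun v hv => ?_) fun b hb => ?_
    · rw [mem_cj, inv_inv]
      exact mem_sup_left (h.AV ha hv)
    · rw [mem_cj, inv_inv]
      have := conj_mem_XX (V := V) (e := e) (mul_mem ha hb)
      have e1 : a * (b * e * b⁻¹) * a⁻¹ = a * b * e * (a * b)⁻¹ := by group
      rwa [e1]
  exact cj_le_iff.2 h1

theorem XX_el (h : Fx A Q V R y q) {e : G} (he : e ∈ Q) (he2 : e * e = 1)
    (hey : ∀ x ∈ Q, e * x * e⁻¹ * x⁻¹ ∈ y) : IsElementaryAbelian 2 (XX A V e) := by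
  -- `X` is abelian
  have h1 : ∀ a ∈ A, XX A V e ≤ centralizer ({a * e * a⁻¹} : Set G) := by
    intro a ha
    refine XX_le (fun v hv => ?_) fun b hb => ?_
    · rw [mem_centralizer_singleton_iff]
      exact h.VcQ v hv _ (h.AQ' ha he)
    · rw [mem_centralizer_singleton_iff]
      exact h.conj_comm'' he he2 hey hb ha
  have hXQ : XX A V e ≤ Q := XX_le h.VQ fun a ha => h.AQ' ha he
  have h2 : ∀ x ∈ XX A V e, XX A V e ≤ centralizer ({x} : Set G) := by
    intro x hx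
    refine XX_le (fun v hv => ?_) fun a ha => ?_
    · rw [mem_centralizer_singleton_iff]
      exact h.VcQ v hv x (hXQ hx)
    · rw [mem_centralizer_singleton_iff]
      exact (mem_centralizer_singleton_iff.1 (h1 a ha hx)).symm
  have hcomm : ∀ x ∈ XX A V e, ∀ x' ∈ XX A V e, x * x' = x' * x := fun x hx x' hx' =>
    (mem_centralizer_singleton_iff.1 (h2 x' hx' hx))
  have hsq : ∀ x ∈ XX A V e, x ^ 2 = 1 := by
    intro x hx
    let Y : Subgroup G :=
      { carrier := {x | x ∈ XX A V e ∧ x ^ 2 = 1}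
        one_mem' := ⟨one_mem _, one_pow 2⟩
        mul_mem' := by
          rintro x x' ⟨hx, hx2⟩ ⟨hx', hx2'⟩
          refine ⟨mul_mem hx hx', ?_⟩
          have hc : Commute x x' := hcomm x hx x' hx'
          rw [hc.mul_pow, hx2, hx2', one_mul]
        inv_mem' := by
          rintro x ⟨hx, hx2⟩
          exact ⟨inv_mem hx, by rw [inv_pow, hx2, inv_one]⟩ }
    have h3 : XX A V e ≤ Y := by
      refine XX_le (fun v hv => ⟨mem_sup_left hv, elem_sq h.Vel v hv⟩) fun a ha => ⟨conj_mem_XX ha, ?_⟩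
      rw [pow_two]
      have e1 : a * e * a⁻¹ * (a * e * a⁻¹) = a * (e * e) * a⁻¹ := by group
      rw [e1, he2]; group
    exact (h3 hx).2
  exact ⟨⟨⟨fun a b => Subtype.ext (hcomm a a.2 b b.2)⟩⟩, fun a ha => hsq a ha⟩

section fin

variable [Finite G]

theorem ri_ne (X Y : Subgroup G) : X.relIndex Y ≠ 0 := Subgroup.index_ne_zero_of_finite

theorem card_y (h : Fx A Q V R y q) : Nat.card y ≤ q := by
  have h1 : (centralizer (A : Set G)).relIndex y = Nat.card y := by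
    rw [← Subgroup.inf_relIndex_right]
    have h2 : centralizer (A : Set G) ⊓ y = ⊥ := by
      rw [eq_bot_iff]
      rintro x ⟨hx, hxy⟩
      rw [mem_bot]
      exact h.yA x hxy fun a ha => mem_centralizer_iff.1 hx a ha
    rw [h2, Subgroup.relIndex_bot_left]
  rw [← h1, ← h.cardV]
  exact Subgroup.relIndex_le_of_le_right h.yV (ri_ne _ _)

/-- the map `a ↦ [a, u]` from `A` onto `R` -/
theorem full (h : Fx A Q V R y q) {u : G} (hu : u ∈ V) (huc : u ∉ centralizer (A : Set G)) {r : G} (hr : r ∈ R) :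
    ∃ a ∈ A, a * u * a⁻¹ * u⁻¹ = r := by
  let f : A →* G :=
    { toFun := fun a => (a : G) * u * (a : G)⁻¹ * u⁻¹
      map_one' := by simp
      map_mul' := by
        intro a b
        have h1 := h.RA a a.2 _ (h.com b b.2 u hu)
        have h2 := h.Vc (h.RV (h.com b b.2 u hu)) (h.RV (h.com a a.2 u hu))
        show (a : G) * b * u * ((a : G) * b)⁻¹ * u⁻¹ = (a : G) * u * (a : G)⁻¹ * u⁻¹ * ((b : G) * u * (b : G)⁻¹ * u⁻¹)
        have e : (a : G) * b * u * ((a : G) * b)⁻¹ * u⁻¹ =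
          ((a : G) * ((b : G) * u * (b : G)⁻¹ * u⁻¹)) * (a : G)⁻¹ * ((a : G) * u * (a : G)⁻¹ * u⁻¹) := by group
        rw [e, h1, ← h2]
        group }
  have hf : ∀ a : A, f a = (a : G) * u * (a : G)⁻¹ * u⁻¹ := fun _ => rfl
  have hker : f.ker = (centralizer (V : Set G)).subgroupOf A := by
    ext a
    rw [MonoidHom.mem_ker, hf, mem_subgroupOf, mem_centralizer_iff]
    constructor
    · intro h1 v hv
      have h2 : (a : G) * u = u * a := mul_inv_eq_iff_eq_mul.1 (mul_inv_eq_one.1 h1)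
      exact (h.free a a.2 u hu h2 huc v hv).symm
    · intro h1
      rw [← h1 u hu]; group
  have h1 : Nat.card f.range = q := by
    have h2 : Nat.card f.range = f.ker.index := by rw [Subgroup.index_ker]
    rw [h2, hker, ← h.cardA]
    rfl
  have h2 : f.range ≤ R := by
    rintro _ ⟨a, rfl⟩
    exact h.com a a.2 u hu
  have h3 : f.range = R := Subgroup.eq_of_le_of_card_ge h2 (by rw [h1, h.cardR])
  rw [← h3] at hr
  obtain ⟨a, ha⟩ := hr
  exact ⟨a, a.2, ha⟩

/-- `C_A(X_e) = C_A(V) ∩ C_A(e)` -/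
theorem mem_cX (h : Fx A Q V R y q) {e b : G} (hb : b ∈ A) (hbV : ∀ v ∈ V, b * v = v * b) (hbe : b * e = e * b) :
    b ∈ centralizer (XX A V e : Set G) := by
  have h1 : XX A V e ≤ centralizer ({b} : Set G) := by
    refine XX_le (fun v hv => ?_) fun a ha => ?_
    · rw [mem_centralizer_singleton_iff]
      exact (hbV v hv).symm
    · rw [mem_centralizer_singleton_iff]
      have h2 := h.Ac ha hb
      calc a * e * a⁻¹ * b = a * e * (b⁻¹ * a)⁻¹ := by group
        _ = a * e * (a * b⁻¹)⁻¹ := by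
          rw [h.Ac (inv_mem hb) ha]
        _ = a * (e * b) * a⁻¹ := by group
        _ = a * (b * e) * a⁻¹ := by rw [hbe]
        _ = (a * b) * e * a⁻¹ := by group
        _ = (b * a) * e * a⁻¹ := by rw [h2]
        _ = b * (a * e * a⁻¹) := by group
  rw [mem_centralizer_iff]
  intro x hx
  exact mem_centralizer_singleton_iff.1 (h1 hx)

/-- **Step 1**: `C_A(V)` centralises `e`. -/
theorem step1 (h : Fx A Q V R y q) (hq : 1 < q) {e : G} (he : e ∈ Q) (he2 : e * e = 1)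
    (hey : ∀ x ∈ Q, e * x * e⁻¹ * x⁻¹ ∈ y) {b : G} (hb : b ∈ A) (hbV : ∀ v ∈ V, b * v = v * b) : b * e = e * b := by
  by_contra hbe
  set X := XX A V e with hX
  have hXQ : X ≤ Q := XX_le h.VQ fun a ha => h.AQ' ha he
  have hVX : V ≤ X := le_sup_left
  set A₀ : Subgroup G := A ⊓ centralizer (V : Set G) with hA₀
  have hA₀V : ∀ b ∈ A₀, ∀ v ∈ V, b * v = v * b := fun b hb v hv => (mem_centralizer_iff.1 hb.2 v hv).symm
  have hA₀Q : A₀ ≤ Q := fun b hb => h.cA b hb.1 (hA₀V b hb)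
  -- the element `u = [b, e]`
  have hbA₀ : b ∈ A₀ := ⟨hb, mem_centralizer_iff.2 fun v hv => (hbV v hv).symm⟩
  set u := b * e * b⁻¹ * e⁻¹ with hu
  have huy : u ∈ y := h.comm_V hey (hA₀Q hbA₀)
  have huV := h.yV huy
  have hu1 : u ≠ 1 := fun h1 => hbe (mul_inv_eq_iff_eq_mul.1 (mul_inv_eq_one.1 h1))
  have huc : u ∉ centralizer (A : Set G) := fun hc =>
    hu1 (h.yA u huy fun a ha => mem_centralizer_iff.1 hc a ha)
  -- commutators of `X` with `b`
  have hcomX : ∀ x ∈ X, b * x * b⁻¹ * x⁻¹ ∈ V := by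
    intro x hx
    let Y : Subgroup G :=
      { carrier := {x | x ∈ Q ∧ b * x * b⁻¹ * x⁻¹ ∈ V}
        one_mem' := ⟨one_mem _, by simp [one_mem]⟩
        mul_mem' := by
          rintro x x' ⟨hx, h1⟩ ⟨hx', h2⟩
          refine ⟨mul_mem hx hx', ?_⟩
          have e1 : b * (x * x') * b⁻¹ * (x * x')⁻¹ =
            (b * x * b⁻¹ * x⁻¹) * (x * (b * x' * b⁻¹ * x'⁻¹) * x⁻¹) := by group
          rw [e1]
          refine mul_mem h1 ?_
          rw [← h.VcQ _ h2 x hx]
          have e2 : b * x' * b⁻¹ * x'⁻¹ * x * x⁻¹ = b * x' * b⁻¹ * x'⁻¹ := by group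
          rwa [e2]
        inv_mem' := by
          rintro x ⟨hx, h1⟩
          refine ⟨inv_mem hx, ?_⟩
          have e1 : b * x⁻¹ * b⁻¹ * x⁻¹⁻¹ = x⁻¹ * ((b * x * b⁻¹ * x⁻¹)⁻¹ * x) := by
            group
          rw [e1, h.VcQ _ (inv_mem h1) x hx]
          have e2 : x⁻¹ * (x * (b * x * b⁻¹ * x⁻¹)⁻¹) = (b * x * b⁻¹ * x⁻¹)⁻¹ := by group
          rw [e2]
          exact inv_mem h1 }
    have h1 : X ≤ Y := by
      refine XX_le (fun v hv => ⟨h.VQ hv, ?_⟩) fun a ha => ⟨h.AQ' ha he, ?_⟩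
      · have e1 : b * v * b⁻¹ * v⁻¹ = 1 := by rw [hbV v hv]; group
        rw [e1]; exact one_mem _
      · have e1 : b * (a * e * a⁻¹) * b⁻¹ * (a * e * a⁻¹)⁻¹ = a * u * a⁻¹ := by
          have h2 := h.Ac ha hb
          calc b * (a * e * a⁻¹) * b⁻¹ * (a * e * a⁻¹)⁻¹ = (b * a) * e * (b * a)⁻¹ * a * e⁻¹ * a⁻¹ := by group
            _ = (a * b) * e * (a * b)⁻¹ * a * e⁻¹ * a⁻¹ := by rw [h2]
            _ = a * u * a⁻¹ := by rw [hu]; group
        rw [e1]
        exact h.AV ha huV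
    exact (h1 hx).2
  let θ : X →* G :=
    { toFun := fun x => b * x * b⁻¹ * (x : G)⁻¹
      map_one' := by simp
      map_mul' := by
        intro x x'
        show b * ((x : G) * x') * b⁻¹ * ((x : G) * x')⁻¹ = _
        have e1 : b * ((x : G) * x') * b⁻¹ * ((x : G) * x')⁻¹ =
          (b * x * b⁻¹ * (x : G)⁻¹) * (x * (b * x' * b⁻¹ * (x' : G)⁻¹)) * (x : G)⁻¹ := by group
        rw [e1, ← h.VcQ _ (hcomX x' x'.2) x (hXQ x.2)]
        group }
  have hθ : ∀ x : X, θ x = b * x * b⁻¹ * (x : G)⁻¹ := fun _ => rfl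
  -- `R ≤ θ(X)`, `u ∈ θ(X)`
  have huθ : u ∈ θ.range := ⟨⟨e, mem_XX⟩, rfl⟩
  have hRθ : R ≤ θ.range := by
    intro r hr
    obtain ⟨a, ha, e1⟩ := h.full huV huc hr
    have h1 : a * u * a⁻¹ ∈ θ.range := by
      refine ⟨⟨a * e * a⁻¹, conj_mem_XX ha⟩, ?_⟩
      rw [hθ]
      have h2 := h.Ac ha hb
      calc b * (a * e * a⁻¹) * b⁻¹ * (a * e * a⁻¹)⁻¹ = (b * a) * e * (b * a)⁻¹ * a * e⁻¹ * a⁻¹ := by group
        _ = (a * b) * e * (a * b)⁻¹ * a * e⁻¹ * a⁻¹ := by rw [h2]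
        _ = a * u * a⁻¹ := by rw [hu]; group
    rw [← e1]
    exact mul_mem h1 (inv_mem huθ)
  have hlow : q < Nat.card θ.range := by
    rw [← h.cardR]
    by_contra hcon
    have h1 : R = θ.range := Subgroup.eq_of_le_of_card_ge hRθ (not_lt.1 hcon)
    rw [← h1] at huθ
    exact hu1 (h.yA u huy fun a ha => h.RA a ha u huθ)
  -- counting
  have hker : θ.ker = (centralizer ({b} : Set G)).subgroupOf X := by
    ext x
    rw [MonoidHom.mem_ker, hθ, mem_subgroupOf, mem_centralizer_singleton_iff]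
    constructor
    · intro h1
      exact (mul_inv_eq_iff_eq_mul.1 (mul_inv_eq_one.1 h1)).symm
    · intro h1
      rw [← h1]; group
  have hcb : (centralizer ({b} : Set G)).relIndex X = Nat.card θ.range := by
    have h2 : Nat.card θ.range = θ.ker.index := by rw [Subgroup.index_ker]
    rw [h2, hker]
    rfl
  set D : Subgroup G := X ⊓ centralizer ({b} : Set G) with hD
  have hVD : V ≤ D := le_inf hVX fun v hv => mem_centralizer_singleton_iff.2 (hbV v hv).symm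
  have hCA : centralizer (A : Set G) ≤ centralizer ({b} : Set G) :=
    centralizer_le (by rintro _ rfl; exact hb)
  have h1 : (centralizer (A : Set G)).relIndex X =
      (centralizer (A : Set G) ⊓ X).relIndex D * D.relIndex X := by
    rw [Subgroup.relIndex_mul_relIndex _ _ _ (le_inf inf_le_right (inf_le_left.trans hCA)) inf_le_left,
      Subgroup.inf_relIndex_right]
  have h2 : D.relIndex X = Nat.card θ.range := by
    rw [hD, inf_comm, Subgroup.inf_relIndex_right, hcb]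
  have h3 : q ≤ (centralizer (A : Set G) ⊓ X).relIndex D := by
    have h4 : (centralizer (A : Set G) ⊓ X).relIndex V = q := by
      rw [← Subgroup.inf_relIndex_right, inf_assoc, inf_eq_right.2 hVX, Subgroup.inf_relIndex_right, h.cardV]
    rw [← h4]
    exact Subgroup.relIndex_le_of_le_right hVD (ri_ne _ _)
  have hoff := h.off X (h.XX_el he he2 hey) hVX hXQ fun a ha => by
    refine le_antisymm (h.XX_cj ha) ?_
    have := h.XX_cj (e := e) (inv_mem ha)
    have h5 := cj_le_iff.1 this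
    rwa [inv_inv] at h5
  -- the upper bound
  have hup : (centralizer (X : Set G)).relIndex A ≤ q * q := by
    have hCX : centralizer (X : Set G) ≤ centralizer (V : Set G) := centralizer_le (by exact_mod_cast hVX)
    have h5 : (centralizer (X : Set G)).relIndex A =
        (centralizer (X : Set G) ⊓ A).relIndex A₀ * A₀.relIndex A := by
      rw [Subgroup.relIndex_mul_relIndex _ _ _ (le_inf inf_le_right (inf_le_left.trans hCX)) inf_le_left,
        Subgroup.inf_relIndex_right]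
    have h6 : A₀.relIndex A = q := by
      rw [hA₀, inf_comm, Subgroup.inf_relIndex_right, h.cardA]
    have h7 : (centralizer (X : Set G) ⊓ A).relIndex A₀ ≤ q := by
      let g : A₀ →* G :=
        { toFun := fun c => (c : G) * e * (c : G)⁻¹ * e⁻¹
          map_one' := by simp
          map_mul' := by
            intro c d
            show (c : G) * d * e * ((c : G) * d)⁻¹ * e⁻¹ = _
            have hd : (d : G) * e * (d : G)⁻¹ * e⁻¹ ∈ V := h.yV (h.comm_V hey (hA₀Q d.2))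
            have hc' : (c : G) * e * (c : G)⁻¹ * e⁻¹ ∈ V := h.yV (h.comm_V hey (hA₀Q c.2))
            have e1 : (c : G) * d * e * ((c : G) * d)⁻¹ * e⁻¹ =
              ((c : G) * ((d : G) * e * (d : G)⁻¹ * e⁻¹)) * (c : G)⁻¹ * ((c : G) * e * (c : G)⁻¹ * e⁻¹) := by group
            rw [e1, hA₀V c c.2 _ hd]
            have e2 : ((d : G) * e * (d : G)⁻¹ * e⁻¹ * c) * (c : G)⁻¹ * ((c : G) * e * (c : G)⁻¹ * e⁻¹) =
              ((d : G) * e * (d : G)⁻¹ * e⁻¹) * ((c : G) * e * (c : G)⁻¹ * e⁻¹) := by group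
            rw [e2, h.Vc hd hc'] }
      have hg : ∀ c : A₀, g c = (c : G) * e * (c : G)⁻¹ * e⁻¹ := fun _ => rfl
      have h8 : g.range ≤ y := by
        rintro _ ⟨c, rfl⟩
        exact h.comm_V hey (hA₀Q c.2)
      have h9 : g.ker ≤ (centralizer (X : Set G) ⊓ A).subgroupOf A₀ := by
        intro c hc
        rw [MonoidHom.mem_ker, hg] at hc
        rw [mem_subgroupOf]
        refine ⟨h.mem_cX c.2.1 (hA₀V c c.2) ?_, c.2.1⟩
        exact mul_inv_eq_iff_eq_mul.1 (mul_inv_eq_one.1 hc)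
      calc (centralizer (X : Set G) ⊓ A).relIndex A₀ ≤ g.ker.index :=
            Nat.le_of_dvd (Nat.pos_of_ne_zero Subgroup.index_ne_zero_of_finite) (Subgroup.index_dvd_of_le h9)
        _ = Nat.card g.range := by rw [Subgroup.index_ker]
        _ ≤ Nat.card y := Subgroup.card_le_of_le h8
        _ ≤ q := h.card_y
    rw [h5, h6]
    exact Nat.mul_le_mul_right _ h7
  have h10 : q * (q + 1) ≤ q * q := by
    calc q * (q + 1) ≤ (centralizer (A : Set G) ⊓ X).relIndex D * D.relIndex X := by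
          rw [h2]
          exact Nat.mul_le_mul h3 hlow
      _ = (centralizer (A : Set G)).relIndex X := h1.symm
      _ ≤ (centralizer (X : Set G)).relIndex A := hoff
      _ ≤ q * q := hup
  have h11 := Nat.le_of_mul_le_mul_left h10 (by omega : 0 < q)
  omega

/-- **The abstract LEMMA FIX.** -/
theorem main (h : Fx A Q V R y q) (hq : 1 < q) {e : G} (he : e ∈ Q) (he2 : e * e = 1)
    (hey : ∀ x ∈ Q, e * x * e⁻¹ * x⁻¹ ∈ y) : ∀ x ∈ Q, e * x = x * e := by
  set X := XX A V e with hX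
  have hXQ : X ≤ Q := XX_le h.VQ fun a ha => h.AQ' ha he
  have hVX : V ≤ X := le_sup_left
  have hoff := h.off X (h.XX_el he he2 hey) hVX hXQ fun a ha => by
    refine le_antisymm (h.XX_cj ha) ?_
    have := h.XX_cj (e := e) (inv_mem ha)
    have h5 := cj_le_iff.1 this
    rwa [inv_inv] at h5
  have h1 : (centralizer (X : Set G)).relIndex A ≤ q := by
    rw [← h.cardA]
    refine Nat.le_of_dvd (Nat.pos_of_ne_zero (ri_ne _ _)) ?_
    refine Subgroup.index_dvd_of_le ?_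
    intro b hb
    rw [mem_subgroupOf] at hb ⊢
    have hbV : ∀ v ∈ V, (b : G) * v = v * b := fun v hv => (mem_centralizer_iff.1 hb v hv).symm
    exact h.mem_cX b.2 hbV (h.step1 hq he he2 hey b.2 hbV)
  set K : Subgroup G := V ⊔ (centralizer (A : Set G) ⊓ X) with hK
  have hKX : K ≤ X := sup_le hVX inf_le_right
  have h2 : (centralizer (A : Set G)).relIndex X =
      (centralizer (A : Set G) ⊓ X).relIndex K * K.relIndex X := by
    rw [Subgroup.relIndex_mul_relIndex _ _ _ le_sup_right hKX, Subgroup.inf_relIndex_right]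
  have h3 : q ≤ (centralizer (A : Set G) ⊓ X).relIndex K := by
    have h4 : (centralizer (A : Set G) ⊓ X).relIndex V = q := by
      rw [← Subgroup.inf_relIndex_right, inf_assoc, inf_eq_right.2 hVX, Subgroup.inf_relIndex_right, h.cardV]
    rw [← h4]
    exact Subgroup.relIndex_le_of_le_right le_sup_left (ri_ne _ _)
  have h4 : K.relIndex X = 1 := by
    have h5 := hoff.trans h1
    rw [h2] at h5
    have h6 := Nat.pos_of_ne_zero (ri_ne K X)
    by_contra hne
    have h7 : 2 ≤ K.relIndex X := by omega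
    have h8 : q * 2 ≤ q := (Nat.mul_le_mul h3 h7).trans h5
    omega
  have heK : e ∈ K := Subgroup.relIndex_eq_one.1 h4 mem_XX
  obtain ⟨v, hv, c, hc, e1⟩ := mem_sup_comm (fun a ha b hb => h.VcQ a ha b (hXQ (mem_inf.1 hb).2)) heK
  -- an element of `A` not centralising `V`
  obtain ⟨a, ha, hn⟩ : ∃ a ∈ A, ¬ ∀ u ∈ V, a * u = u * a := by
    by_contra hcon
    push Not at hcon
    have h5 : (centralizer (V : Set G)).relIndex A = 1 := by
      rw [Subgroup.relIndex_eq_one]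
      intro a ha
      rw [mem_centralizer_iff]
      exact fun v hv => (hcon a ha v hv).symm
    rw [h.cardA] at h5
    omega
  set r := a * v * a⁻¹ * v⁻¹ with hr
  have hrV : r ∈ V := h.RV (h.com a ha v hv)
  have hae : a * e * a⁻¹ = r * e := by
    have h5 := mem_centralizer_iff.1 hc.1 a ha
    calc a * e * a⁻¹ = (a * v * a⁻¹) * (a * c * a⁻¹) := by rw [e1]; group
      _ = (a * v * a⁻¹) * c := by rw [h5]; group
      _ = r * e := by rw [hr, e1]; group
  intro x hx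
  have h5 : e * x * e⁻¹ * x⁻¹ ∈ cj a y := by
    rw [mem_cj]
    have hx' : a⁻¹ * x * a ∈ Q := by
      have := h.AQ' (inv_mem ha) hx
      rwa [inv_inv] at this
    have h6 := hey _ hx'
    have h7 : e * x * e⁻¹ * x⁻¹ = (a * e * a⁻¹) * x * (a * e * a⁻¹)⁻¹ * x⁻¹ := by
      rw [hae]
      have h8 : r * (e * x * e⁻¹) = (e * x * e⁻¹) * r := h.VcQ r hrV _ (mul_mem (mul_mem he hx) (inv_mem he))
      calc e * x * e⁻¹ * x⁻¹ = (e * x * e⁻¹) * r * r⁻¹ * x⁻¹ := by group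
        _ = r * (e * x * e⁻¹) * r⁻¹ * x⁻¹ := by rw [h8]
        _ = r * e * x * (r * e)⁻¹ * x⁻¹ := by group
    rw [h7]
    have e3 : a⁻¹ * ((a * e * a⁻¹) * x * (a * e * a⁻¹)⁻¹ * x⁻¹) * a =
      e * (a⁻¹ * x * a) * e⁻¹ * (a⁻¹ * x * a)⁻¹ := by group
    rwa [e3]
  have h6 := h.y_inf ha hn (hey x hx) h5
  exact mul_inv_eq_iff_eq_mul.1 (mul_inv_eq_one.1 h6)

end fin

end Fx

/-! ### The frame -/

theorem relIndex_mul_card (X Y : Subgroup G) : X.relIndex Y * Nat.card ↥(Y ⊓ X) = Nat.card Y := by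
  have h1 := Subgroup.relIndex_mul_relIndex ⊥ (Y ⊓ X) Y bot_le inf_le_left
  rw [Subgroup.relIndex_bot_left, Subgroup.relIndex_bot_left, Subgroup.inf_relIndex_left] at h1
  rw [mul_comm]
  exact h1

/-- `|X : C_X(A)| ≤ |A : C_A(X)|` for elementary abelian `X`, `A`, `|A|` maximal. -/
theorem off_of_mx [Finite G] {m : ℕ} (hm : Mx G m) {A X : Subgroup G} (hA : IsElementaryAbelian 2 A)
    (hAm : Nat.card A = m) (hX : IsElementaryAbelian 2 X) :
    (centralizer (A : Set G)).relIndex X ≤ (centralizer (X : Set G)).relIndex A := by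
  have hcomm : ∀ x ∈ X, ∀ a ∈ A ⊓ centralizer (X : Set G), x * a = a * x := fun x hx a ha =>
    mem_centralizer_iff.1 ha.2 x hx
  have h1 := card_sup_comm hcomm
  have h2 := hm _ (isElementaryAbelian_sup hX (Cfsg.Agent.PLocal.ThompsonJ.isElementaryAbelian_mono hA inf_le_left)
    (BlockUniq.elem_le_centralizer hcomm))
  have h3 : Nat.card ↥(X ⊓ (A ⊓ centralizer (X : Set G)) : Subgroup G) ≤
      Nat.card ↥(X ⊓ centralizer (A : Set G) : Subgroup G) := by
    refine Subgroup.card_le_of_le ?_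
    rintro u ⟨hu, hu', -⟩
    exact ⟨hu, mem_centralizer_iff.2 fun a ha => elem_comm hA a ha u hu'⟩
  have h4 := relIndex_mul_card (centralizer (A : Set G)) X
  have h5 := relIndex_mul_card (centralizer (X : Set G)) A
  set r1 := (centralizer (A : Set G)).relIndex X
  set r2 := (centralizer (X : Set G)).relIndex A
  set c1 := Nat.card ↥(X ⊓ centralizer (A : Set G) : Subgroup G)
  set c2 := Nat.card ↥(A ⊓ centralizer (X : Set G) : Subgroup G)
  have hc1 : 0 < c1 := Nat.card_pos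
  have hc2 : 0 < c2 := Nat.card_pos
  refine Nat.le_of_mul_le_mul_right ?_ (Nat.mul_pos hc1 hc2)
  calc r1 * (c1 * c2) = Nat.card X * c2 := by rw [← h4]; ring
    _ = Nat.card ↥(X ⊔ (A ⊓ centralizer (X : Set G)) : Subgroup G) *
        Nat.card ↥(X ⊓ (A ⊓ centralizer (X : Set G)) : Subgroup G) := h1.symm
    _ ≤ m * c1 := Nat.mul_le_mul h2 h3
    _ = (r2 * c2) * c1 := by rw [← hAm, ← h5]
    _ = r2 * (c1 * c2) := by ring

section frame

variable {ι : Type*} {B Q V ZJ : Subgroup G} {L W Z C A : ι → Subgroup G} {q m : ℕ}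

theorem fx [Finite G] (h : Fr B Q V ZJ L W Z C A q m) (i : ι) {y : Subgroup G} (hy : y ≤ V)
    (hyi : y ⊓ (Z i ⊔ C i) = ⊥) : Fx (A i) Q V (Z i) y q := by
  have hAL : ∀ a ∈ A i, a ∈ L i := fun a ha => (h.blk i).BL (h.AB i ha)
  have hcV : ∀ a ∈ A i, (∀ v ∈ W i, a * v = v * a) → ∀ v ∈ V, a * v = v * a := fun a ha hw v hv =>
    h.cQ (h.A_Q ha hw) hv
  refine
    { Ael := h.Ael i
      Vel := h.el
      VQ := h.VQ
      VcQ := fun v hv x hx => (h.cQ hx hv).symm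
      AQ := fun a ha => h.cj_Q (hAL a ha)
      cA := fun a ha hc => (h.mem_Q a (h.AB i ha)).2 hc
      RV := h.ZV i
      RA := fun a ha r hr => (h.blk i).cZ a (h.AB i ha) r hr
      com := fun a ha v hv => h.A_comm ha hv
      cardR := h.cardZ i
      cardA := ?_
      cardV := ?_
      free := ?_
      yV := hy
      yA := ?_
      off := fun X hX _ _ _ => off_of_mx h.max (h.Ael i) (h.Am i) hX }
  · have h1 : A i ⊓ centralizer (V : Set G) = A i ⊓ centralizer (W i : Set G) := by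
      apply le_antisymm
      · exact inf_le_inf_left _ (centralizer_le (by exact_mod_cast h.WV i))
      · rintro a ⟨ha, hac⟩
        refine ⟨ha, mem_centralizer_iff.2 fun v hv => ?_⟩
        exact (hcV a ha (fun w hw => (mem_centralizer_iff.1 hac w hw).symm) v hv).symm
    have h2 := relIndex_mul_card (centralizer (V : Set G)) (A i)
    rw [h1, ← (h.A_full i).2.2] at h2
    exact Nat.eq_of_mul_eq_mul_right Nat.card_pos h2
  · have h2 := relIndex_mul_card (centralizer (A i : Set G)) V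
    rw [h.card_CVA i, mul_comm] at h2
    exact Nat.eq_of_mul_eq_mul_left Nat.card_pos h2
  · intro a ha v hv hav hvc
    obtain ⟨w, hw, c, hc, rfl⟩ := h.WC i v hv
    have h1 := h.AC i a ha c hc
    have h2 : a * w = w * a := by
      calc a * w = a * (w * c) * c⁻¹ := by group
        _ = (w * c) * a * c⁻¹ := by rw [hav]
        _ = w * (c * a) * c⁻¹ := by group
        _ = w * (a * c) * c⁻¹ := by rw [h1]
        _ = w * a := by group
    refine hcV a ha ((h.blk i).free a (h.AB i ha) w hw (fun hwZ => hvc ?_) h2)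
    have h3 : w * c ∈ V ⊓ centralizer (A i : Set G) := by
      rw [h.CVA i]
      exact mul_mem (mem_sup_left hwZ) (mem_sup_right hc)
    exact h3.2
  · intro u hu hc
    have h1 : u ∈ V ⊓ centralizer (A i : Set G) := ⟨hy hu, mem_centralizer_iff.2 hc⟩
    rw [h.CVA i] at h1
    have h2 : u ∈ y ⊓ (Z i ⊔ C i) := ⟨hu, h1⟩
    rwa [hyi, mem_bot] at h2

/-- **LEMMA FIX**, `y ≤ V` with `y ∩ C_V(A i) = 1`. -/
theorem fix [Finite G] (h : Fr B Q V ZJ L W Z C A q m) {i : ι} {y : Subgroup G} (hy : y ≤ V)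
    (hyi : y ⊓ (Z i ⊔ C i) = ⊥) {e : G} (he : e ∈ Q) (he2 : e ^ 2 = 1)
    (hey : ∀ x ∈ Q, e * x * e⁻¹ * x⁻¹ ∈ y) : e ∈ V :=
  h.zcQ e he he2 ((fx h i hy hyi).main (h.blk i).one he (by rw [← pow_two]; exact he2) hey)

/-- **LEMMA FIX**: `e ∈ Q` an involution, `[e, Q] ≤ y ≤ Z_J`, `y ∩ C i = 1`; then `e ∈ V`. -/
theorem fix_ZJ [Finite G] (h : Fr B Q V ZJ L W Z C A q m) {i : ι} {y : Subgroup G} (hy : y ≤ ZJ)
    (hyC : y ⊓ C i = ⊥) {e : G} (he : e ∈ Q) (he2 : e ^ 2 = 1)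
    (hey : ∀ x ∈ Q, e * x * e⁻¹ * x⁻¹ ∈ y) : e ∈ V := by
  obtain ⟨l, hl, hmv⟩ := h.exists_mv i
  have h1 : l * e * l⁻¹ ∈ V := by
    refine fix h (i := i) (y := cj l y) ?_ ?_ (h.LQ i l hl e he) ?_ fun x hx => ?_
    · rw [← h.cj_V hl]
      exact cj_mono l (hy.trans h.ZJV)
    · rw [eq_bot_iff]
      rintro _ ⟨⟨u, hu, rfl⟩, hu2⟩
      change l * u * l⁻¹ ∈ Z i ⊔ C i at hu2
      change l * u * l⁻¹ ∈ (⊥ : Subgroup G)
      obtain ⟨w, hw, c, hc, hcJ, e1⟩ := h.split_ZJ i (hy hu)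
      obtain ⟨z, hz, c', hc', e2⟩ := mem_sup_comm (fun a ha b hb => h.Vc (h.ZV i ha) (h.CV i hb)) hu2
      have hlc := h.LC i l hl c hcJ hc
      have e3 : (l * w * l⁻¹) * c = z * c' := by
        rw [← e2, e1]
        calc l * w * l⁻¹ * c = l * w * l⁻¹ * (c * l) * l⁻¹ := by group
          _ = l * w * l⁻¹ * (l * c) * l⁻¹ := by rw [hlc]
          _ = l * (w * c) * l⁻¹ := by group
      have h3 := h.uniq (i := i) ((h.blk i).nV l hl w ((h.blk i).ZV hw)) ((h.blk i).ZV hz) hc hc' e3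
      have h4 : l * w * l⁻¹ ∈ cj l (Z i) ⊓ Z i := ⟨⟨w, hw, rfl⟩, by rw [h3.1]; exact hz⟩
      rw [h.tri' hl hmv, mem_bot] at h4
      have hw1 : w = 1 := by
        have h5 := congrArg (fun t => l⁻¹ * t * l) h4
        simpa [mul_assoc] using h5
      have h5 : u ∈ y ⊓ C i := ⟨hu, by rw [e1, hw1, one_mul]; exact hc⟩
      rw [hyC, mem_bot] at h5
      rw [h5, mem_bot]; group
    · have e1 : (l * e * l⁻¹) ^ 2 = l * e ^ 2 * l⁻¹ := by rw [pow_two, pow_two]; group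
      rw [e1, he2]; group
    · rw [mem_cj]
      have h2 := h.LQ i l⁻¹ (inv_mem hl) x hx
      rw [inv_inv] at h2
      have h3 := hey _ h2
      have e1 : l⁻¹ * (l * e * l⁻¹ * x * (l * e * l⁻¹)⁻¹ * x⁻¹) * l =
        e * (l⁻¹ * x * l) * e⁻¹ * (l⁻¹ * x * l)⁻¹ := by group
      rwa [e1]
  have h2 := h.LV i l⁻¹ (inv_mem hl) _ h1
  have e1 : l⁻¹ * (l * e * l⁻¹) * l⁻¹⁻¹ = e := by group
  rwa [e1] at h2

/-- **LEMMA FIX** for `y = Z i` (helper609 #19750 (1), all `q`). -/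
theorem fix_Z [Finite G] (h : Fr B Q V ZJ L W Z C A q m) {i : ι} {e : G} (he : e ∈ Q) (he2 : e ^ 2 = 1)
    (hey : ∀ x ∈ Q, e * x * e⁻¹ * x⁻¹ ∈ Z i) : e ∈ V := by
  refine fix_ZJ h (i := i) (h.Z_le i) ?_ he he2 hey
  rw [eq_bot_iff, ← h.dir i]
  exact inf_le_inf_right _ (h.blk i).ZV

end frame

end Cfsg.Agent.Omega.OM.FixLem

namespace Cfsg.Agent.Omega.OM

open Subgroup Cfsg.Agent.ZN.ChoiceBase
open Cfsg.Agent.ZN (jj zj bau zc zl o2)

universe u

variable {G : Type u} [Group G] [Finite G] {ι : Type} [Finite ι] {S : Sylow 2 G} {P : Subgroup G}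
  {L W Z C A : ι → Subgroup G} {q : ℕ}

omit [Finite ι] in
/-- **LEMMA FIX** over `Line`: an involution `e ∈ O₂(P)` with `[e, O₂(P)] ≤ y ≤ Z_J`, `y ∩ C i = 1`, lies in `V_P`. -/
theorem Line.fix (h : Line S P L W Z C A q) {i : ι} {y : Subgroup G} (hy : y ≤ zj (S : Subgroup G))
    (hyC : y ⊓ C i = ⊥) {e : G} (he : e ∈ o2 P) (he2 : e ^ 2 = 1)
    (hey : ∀ x ∈ o2 P, e * x * e⁻¹ * x⁻¹ ∈ y) : e ∈ zl (S : Subgroup G) P :=
  FixLem.fix_ZJ h.fr hy hyC he he2 hey

/-- `N_G(B)` permutes the pairs `(Z i, Z_J ∩ C i)`, all `q`. -/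
theorem Line.permC (h : Line S P L W Z C A q) {g : G} (hg : g ∈ normalizer (bau (S : Subgroup G) : Set G)) (i : ι) :
    ∃ j, cj g (Z i) = Z j ∧ ∀ z ∈ zj (S : Subgroup G), (g * z * g⁻¹ ∈ C j ↔ z ∈ C i) := by
  have h' : Uni.FB (bau (S : Subgroup G)) (cj g (L i)) (cj g (W i)) (cj g (Z i)) q := by
    have := (h.fr.blk i).conj g
    rwa [cj_eq_of_mem_normalizer hg] at this
  obtain ⟨-, j, hZ, -, h1 | ⟨-, -, ⟨w', hw', w, hw, hne⟩, -⟩⟩ := h.uniPlus h'
  · obtain ⟨-, hC, -⟩ := h1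
    refine ⟨j, hZ, fun z hz => ?_⟩
    have hz' : g * z * g⁻¹ ∈ zj (S : Subgroup G) := by
      have h3 := cj_eq_of_mem_normalizer (Dich.norm_zj _ hg)
      rw [← h3]
      exact ⟨z, hz, rfl⟩
    rw [hC _ hz', UniPlus.mem_C_iff h.fr hz]
    constructor
    · intro h3 l hl
      have h4 := h3 (g * l * g⁻¹) ⟨l, hl, rfl⟩
      have h5 := congrArg (fun t => g⁻¹ * t * g) h4
      simpa [mul_assoc] using h5
    · intro h3 l hl
      have h4 := h3 _ (mem_cj.1 hl)
      have h5 := congrArg (fun t => g * t * g⁻¹) h4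
      simpa [mul_assoc] using h5
  · exfalso
    apply hne
    refine h.fr.Vc ?_ (h.fr.WV j hw)
    rw [← (h.norm hg).1]
    exact cj_mono g (h.fr.WV i) hw'

omit [Finite ι] in
theorem Line.Z_injq (h : Line S P L W Z C A q) {i j : ι} (e : Z i = Z j) : i = j := by
  by_contra hne
  have h1 : 1 < Nat.card (Z i) := by rw [h.fr.cardZ i]; exact (h.fr.blk i).one
  have : Nontrivial (Z i) := Finite.one_lt_card_iff_nontrivial.1 h1
  obtain ⟨z, hz⟩ := exists_ne (1 : Z i)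
  have h2 : (z : G) ∈ W i ⊓ C i :=
    mem_inf.2 ⟨(h.fr.blk i).ZV z.2, h.fr.WjC i j hne ((h.fr.blk j).ZV (e ▸ z.2))⟩
  rw [h.fr.dir i, mem_bot] at h2
  exact hz (Subtype.ext h2)

/-- `Ω₁(Z(S)) ∩ C i = 1` if `S` is transitive on the `Z i`. -/
theorem Line.zc_inf_C (h : Line S P L W Z C A q) (htr : ∀ i j, ∃ s ∈ (S : Subgroup G), cj s (Z i) = Z j) (i : ι) :
    zc (S : Subgroup G) ⊓ C i = ⊥ := by
  rw [eq_bot_iff]
  rintro x ⟨hx, hxi⟩
  have hxJ : x ∈ zj (S : Subgroup G) := zc_le_zj _ hx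
  rw [mem_bot]
  refine h.fr.C0 x (h.fr.ZJV hxJ) fun j => ?_
  obtain ⟨s, hs, e⟩ := htr i j
  obtain ⟨k, e', h1⟩ := h.permC (Line.S_le S hs) i
  have hk : j = k := h.Z_injq (e.symm.trans e')
  subst hk
  have h2 : s * x * s⁻¹ = x := by rw [(mem_zc.1 hx).2.2 s hs]; group
  have h3 := (h1 x hxJ).2 hxi
  rwa [h2] at h3

/-- **LEMMA FIX** (helper929 #19817): an involution `e ∈ O₂(P)` with `[e, O₂(P)] ≤ Ω₁(Z(S))` lies in `V_P`. -/
theorem Line.fix_zc (h : Line S P L W Z C A q) [Nonempty ι]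
    (htr : ∀ i j, ∃ s ∈ (S : Subgroup G), cj s (Z i) = Z j) {e : G} (he : e ∈ o2 P) (he2 : e ^ 2 = 1)
    (hey : ∀ x ∈ o2 P, e * x * e⁻¹ * x⁻¹ ∈ zc (S : Subgroup G)) : e ∈ zl (S : Subgroup G) P := by
  obtain ⟨i⟩ := ‹Nonempty ι›
  exact h.fix (zc_le_zj _) (h.zc_inf_C htr i) he he2 hey

/-- `V / Ω₁(Z(S)) = C(O₂(P))` in every elementary abelian `E ≤ O₂(P)` (e.g. `E = W`, `E = ⟨V^{C_G(Z)}⟩`). -/
theorem Line.cent_quot (h : Line S P L W Z C A q) [Nonempty ι]
    (htr : ∀ i j, ∃ s ∈ (S : Subgroup G), cj s (Z i) = Z j) {E : Subgroup G} (hE : E ≤ o2 P)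
    (hE2 : ∀ x ∈ E, x ^ 2 = 1) {e : G} (he : e ∈ E)
    (hey : ∀ x ∈ o2 P, e * x * e⁻¹ * x⁻¹ ∈ zc (S : Subgroup G)) : e ∈ zl (S : Subgroup G) P :=
  h.fix_zc htr (hE he) (hE2 e he) hey

end Cfsg.Agent.Omega.OM

end
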